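import Groth.Agent.Transporter.Basic

/-!
A monomorphism closed under the group law is a subgroup; centralizers.
-/

universe u

open CategoryTheory Limits MonoidalCategory CartesianMonoidalCategory MonObj GrpObj AlgebraicGeometry

set_option backward.isDefEq.respectTransparency false
set_option linter.style.haveILetI false

noncomputable section

namespace Groth.Agent.Transporter

theorem exists_grpObj_of_closed {C : Type*} [Category C] [CartesianMonoidalCategory C] {T G : C} [GrpObj G]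
    (j : T ⟶ G) [Mono j] (hone : ∃ c : 𝟙_ C ⟶ T, c ≫ j = 1)
    (hmul : ∀ (X : C) (a b : X ⟶ T), ∃ c : X ⟶ T, c ≫ j = (a ≫ j) * (b ≫ j))
    (hinv : ∀ (X : C) (a : X ⟶ T), ∃ c : X ⟶ T, c ≫ j = (a ≫ j)⁻¹) : ∃ _ : GrpObj T, IsMonHom j := by
  let Sub : ∀ X : C, Subgroup (X ⟶ G) := fun X =>
    { carrier := {g | ∃ z : X ⟶ T, z ≫ j = g}
      one_mem' := by
        obtain ⟨c, hc⟩ := hone
        exact ⟨toUnit X ≫ c, by rw [Category.assoc, hc, MonObj.comp_one]⟩
      mul_mem' := by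
        rintro _ _ ⟨a, rfl⟩ ⟨b, rfl⟩
        exact hmul X a b
      inv_mem' := by
        rintro _ ⟨a, rfl⟩
        exact hinv X a }
  let F : Cᵒᵖ ⥤ GrpCat :=
    { obj := fun X => GrpCat.of (Sub X.unop)
      map := fun {X Y} φ => GrpCat.ofHom
        { toFun := fun g => ⟨φ.unop ≫ g.1, by obtain ⟨z, hz⟩ := g.2; exact ⟨φ.unop ≫ z, by rw [Category.assoc, hz]⟩⟩
          map_one' := Subtype.ext (MonObj.comp_one _)
          map_mul' := fun a b => Subtype.ext (MonObj.comp_mul _ _ _) }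
      map_id := fun X => GrpCat.hom_ext (MonoidHom.ext fun g => Subtype.ext (Category.id_comp g.1))
      map_comp := fun φ ψ => GrpCat.hom_ext (MonoidHom.ext fun g => Subtype.ext (Category.assoc _ _ _)) }
  let α : (F ⋙ forget _).RepresentableBy T :=
    { homEquiv := fun {X} => Equiv.ofBijective (fun z => (⟨z ≫ j, z, rfl⟩ : Sub X))
        ⟨fun a b h => (cancel_mono j).mp (congrArg Subtype.val h), fun g => by
          obtain ⟨z, hz⟩ := g.2
          exact ⟨z, Subtype.ext hz⟩⟩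
      homEquiv_comp := fun f g => Subtype.ext (Category.assoc _ _ _) }
  letI I := GrpObj.ofRepresentableBy T F α
  refine ⟨I, Groth.Agent.CentralDescent.isMonHom_of_mul j fun X a b => ?_⟩
  have h : (μ[T] : T ⊗ T ⟶ T) ≫ j = (fst T T ≫ j) * (snd T T ≫ j) := by
    let e : ∀ {X : C}, (X ⟶ T) ≃ Sub X := fun {X} => α.homEquiv
    exact congrArg Subtype.val ((e (X := T ⊗ T)).apply_symm_apply (e (fst T T) * e (snd T T)))
  rw [Hom.mul_def, Category.assoc, h, MonObj.comp_mul, lift_fst_assoc, lift_snd_assoc]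

variable {S : Scheme.{u}} {H G : Over S} [GrpObj H] [GrpObj G]

theorem exists_centralizer (hH : IsMT H) [IsSeparated G.hom] (u : H ⟶ G) [IsMonHom u] :
    ∃ (Z : Over S) (_ : GrpObj Z) (j : Z ⟶ G), Red.IsCentralizerOf u j ∧ IsClosedImmersion j.left ∧
      (Smooth G.hom → Smooth Z.hom) := by
  obtain ⟨T, j, hj, hT, -, hsm⟩ := exists_transporter hH u u
  haveI := hj
  haveI : Mono j := Over.mono_of_mono_left j
  have hcomm : ∀ (X : Over S) (g : X ⟶ G), (∃ z : X ⟶ T, z ≫ j = g) ↔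
      ∀ (X' : Over S) (x : X' ⟶ X) (h : X' ⟶ H), (x ≫ g) * (h ≫ u) = (h ≫ u) * (x ≫ g) := fun X g =>
    (hT X g).trans (forall₃_congr fun X' x h => mul_inv_eq_iff_eq_mul)
  have hc : ∀ (X : Over S) (a : X ⟶ T) (X' : Over S) (x : X' ⟶ X) (h : X' ⟶ H),
      Commute (x ≫ a ≫ j) (h ≫ u) := fun X a => (hcomm X _).mp ⟨a, rfl⟩
  obtain ⟨I, hI⟩ := exists_grpObj_of_closed j
    ((hcomm _ 1).mpr fun X' x h => by rw [MonObj.comp_one, _root_.one_mul, _root_.mul_one])
    (fun X a b => (hcomm X _).mpr fun X' x h => by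
      rw [MonObj.comp_mul]
      exact ((hc X a X' x h).mul_left (hc X b X' x h)).eq)
    (fun X a => (hcomm X _).mpr fun X' x h => by
      rw [GrpObj.comp_inv]
      exact ((hc X a X' x h).inv_left).eq)
  exact ⟨T, I, j, ⟨hI, inferInstance, hcomm⟩, hj, hsm⟩

end Groth.Agent.Transporter
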