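import Groth.Agent.Transporter.Descend
import Groth.Agent.CoeffLocus.Basic
import Groth.Agent.CentralDescent.Cover
import Groth.Agent.FactLocus.Basic
import Groth.Agent.CenterRep.Glue
import Groth.Agent.FibrewiseCrit.Basic

/-!
The locus where two homomorphisms out of a group of multiplicative type agree is a closed subscheme.
-/

universe u

open CategoryTheory Limits MonoidalCategory CartesianMonoidalCategory MonObj GrpObj AlgebraicGeometry
open CoactBr Groth.Agent.DiagGrp Groth.Agent.DiagAction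

set_option backward.isDefEq.respectTransparency false
set_option linter.style.haveILetI false

noncomputable section

namespace Groth.Agent.Transporter

/-- of multiplicative type, with arbitrary character groups -/
abbrev IsMT {S : Scheme.{u}} (H : Over S) [GrpObj H] : Prop :=
  TwC.Locally S TwC.Topology.fpqc (fun S' g => ∃ (M : Type) (_ : AddCommGroup M), Nonempty (Grp.mk (Red.bc g H) ≅ Grp.mk (Red.DS S' M)))

theorem isMT_of_isMultTypeFT {S : Scheme.{u}} (H : Over S) [GrpObj H] (hH : SGA3x.IsMultTypeFT H) : IsMT H := by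
  obtain ⟨S', f, hflat, hsurj, hcov, hloc⟩ := hH
  exact ⟨S', f, hflat, hsurj, hcov, fun q => let ⟨U, hU, M, i, _, h⟩ := hloc q; ⟨U, hU, M, i, h⟩⟩

theorem isMT_bc {S T : Scheme.{u}} (t : T ⟶ S) (H : Over S) [GrpObj H] (hH : IsMT H) : IsMT (Red.bc t H) := by
  obtain ⟨S', f, hflat, hsurj, hcov, hloc⟩ := hH
  haveI : Flat f := hflat
  haveI : Surjective f := hsurj
  refine ⟨pullback f t, pullback.snd f t, inferInstance, inferInstance, CentralDescent.isFpqcCov_snd f hcov t, fun p => ?_⟩
  obtain ⟨U, hpU, M, _, ⟨E⟩⟩ := hloc (pullback.fst f t p)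
  let U' := pullback.fst f t ⁻¹ᵁ U
  let j : (U' : Scheme.{u}) ⟶ U := IsOpenImmersion.lift U.ι (U'.ι ≫ pullback.fst f t) (by
    rintro _ ⟨y, rfl⟩; exact (Scheme.Opens.range_ι U).ge y.2)
  obtain ⟨e1⟩ := bc_comp_grp (U'.ι ≫ pullback.snd f t) t H
  obtain ⟨e2⟩ := bc_congr_grp (h := (U'.ι ≫ pullback.snd f t) ≫ t) (h' := j ≫ U.ι ≫ f)
    (by rw [IsOpenImmersion.lift_fac_assoc, Category.assoc, Category.assoc, pullback.condition]) H
  obtain ⟨e3⟩ := bc_comp_grp j (U.ι ≫ f) H
  obtain ⟨e4⟩ := ConjInt.bc_DS_grp j M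
  exact ⟨U', hpU, M, inferInstance,
    ⟨e1.symm ≪≫ e2 ≪≫ e3 ≪≫ (Over.pullback j).mapGrp.mapIso E ≪≫ e4⟩⟩

variable {S : Scheme.{u}} {H G : Over S}

/-- the two maps agree above `t` -/
def Eqz (u v : H ⟶ G) {T : Scheme.{u}} (t : T ⟶ S) : Prop :=
  ∀ (Y : Over S) (_ : Y ⟶ Over.mk t) (h : Y ⟶ H), h ≫ u = h ≫ v

variable {u v : H ⟶ G}

theorem Eqz.comp {T T' : Scheme.{u}} {t : T ⟶ S} (k : T' ⟶ T) (h : Eqz u v t) : Eqz u v (k ≫ t) :=
  fun Y p y => h Y (p ≫ Over.homMk k) y

theorem eqz_of_cover {T T' : Scheme.{u}} (t : T ⟶ S) (q : T' ⟶ T) [Flat q] [Surjective q]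
    (h : Eqz u v (q ≫ t)) : Eqz u v t := by
  intro Y p y
  apply Over.OverMorphism.ext
  let Y' : Over S := Over.mk (pullback.fst p.left q ≫ Y.hom)
  let k : Y' ⟶ Y := Over.homMk (pullback.fst p.left q)
  let p' : Y' ⟶ Over.mk (q ≫ t) := Over.homMk (pullback.snd p.left q) (by
    show pullback.snd p.left q ≫ q ≫ t = pullback.fst p.left q ≫ Y.hom
    rw [← Over.w p, ← Category.assoc, ← pullback.condition, Category.assoc]
    rfl)
  haveI : Epi (pullback.fst p.left q) := Flat.epi_of_flat_of_surjective _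
  rw [← cancel_epi (pullback.fst p.left q)]
  have e := h Y' p' (k ≫ y)
  rw [Category.assoc, Category.assoc] at e
  exact congrArg CommaMorphism.left e

theorem eqz_of_cover_family {T : Scheme.{u}} (t : T ⟶ S) {jj : Type u} (X : jj → Scheme.{u}) (q : ∀ i, X i ⟶ T)
    [∀ i, Flat (q i)] (hs : ∀ x : T, ∃ i, x ∈ Set.range (q i)) (h : ∀ i, Eqz u v (q i ≫ t)) : Eqz u v t := by
  haveI : Flat (Sigma.desc q) := IsZariskiLocalAtSource.sigmaDesc (P := @Flat) fun i => inferInstance
  haveI : Surjective (Sigma.desc q) := ⟨fun x => by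
    obtain ⟨i, y, hy⟩ := hs x
    exact ⟨Sigma.ι X i y, by rw [← Scheme.Hom.comp_apply, Sigma.ι_desc]; exact hy⟩⟩
  refine eqz_of_cover t (Sigma.desc q) ?_
  intro Y p y
  apply Over.OverMorphism.ext
  refine (Y.left.openCoverOfIsOpenCover (fun i => p.left ⁻¹ᵁ (Sigma.ι X i).opensRange) ?_).hom_ext _ _ fun i => ?_
  · refine eq_top_iff.mpr fun z _ => TopologicalSpace.Opens.mem_iSup.mpr ?_
    obtain ⟨i, w, hw⟩ := (sigmaOpenCover X).exists_eq (p.left z)
    exact ⟨i, w, hw⟩
  let V := p.left ⁻¹ᵁ (Sigma.ι X i).opensRange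
  let Y' : Over S := Over.mk (V.ι ≫ Y.hom)
  let k : Y' ⟶ Y := Over.homMk V.ι
  let l : (V : Scheme.{u}) ⟶ X i := IsOpenImmersion.lift (Sigma.ι X i) (V.ι ≫ p.left) (by
    rintro _ ⟨z, rfl⟩; exact z.2)
  have e := h i Y' (Over.homMk l (by
    show l ≫ q i ≫ t = V.ι ≫ Y.hom
    rw [← Sigma.ι_desc q i, Category.assoc, IsOpenImmersion.lift_fac_assoc, Category.assoc]
    exact congrArg (V.ι ≫ ·) (Over.w p))) (k ≫ y)
  rw [Category.assoc, Category.assoc] at e
  exact congrArg CommaMorphism.left e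

variable [GrpObj H]

/-- on a split piece the locus is cut out by the coefficients -/
theorem exists_eq_chart [IsSeparated G.hom] {A : Type u} [CommRing A]
    (t : Spec (CommRingCat.of A) ⟶ S) {M : Type} [CommGroup M]
    (he : Nonempty (Grp.mk (Red.bc t H) ≅ Grp.mk (sp A (MonoidAlgebra A M)))) (u v : H ⟶ G) :
    ∃ c : Ideal A, (LocallyOfFiniteType G.hom → c.FG) ∧ ∀ (B : Type u) [CommRing B] (f : A →+* B),
        Eqz u v (Spec.map (CommRingCat.ofHom f) ≫ t) ↔ c ≤ RingHom.ker f := by
  classical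
  obtain ⟨E⟩ := he
  let e : sp A (MonoidAlgebra A M) ⟶ Red.bc t H := E.inv.hom.hom
  haveI : IsIso e := ((Grp.forget _).mapIso E).isIso_inv
  let w : Spec (CommRingCat.of (MonoidAlgebra A M)) ⟶ H.left := (downP t e).left
  let d : Spec (CommRingCat.of (MonoidAlgebra A M)) ⟶ pullback G.hom G.hom :=
    pullback.lift (w ≫ u.left) (w ≫ v.left) (by rw [Category.assoc, Category.assoc, Over.w u, Over.w v])
  let E' := pullback.snd (pullback.diagonal G.hom) d
  obtain ⟨I, hIfg, hI⟩ := FactLocus.exists_ker_criterion E'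
  let c : Ideal A := Ideal.span {a | ∃ x ∈ I, ∃ m, x.coeff m = a}
  have hc : ∀ (B : Type u) [CommRing B] (f : A →+* B),
      I ≤ RingHom.ker (MonoidAlgebra.mapRingHom M f) ↔ c ≤ RingHom.ker f := by
    intro B _ f
    constructor
    · refine fun h => Ideal.span_le.mpr ?_
      rintro _ ⟨x, hx, m, rfl⟩
      have h1 := congrArg (fun w => w.coeff m) (RingHom.mem_ker.mp (h hx))
      simpa using h1
    · intro h x hx
      refine RingHom.mem_ker.mpr (MonoidAlgebra.ext (Finsupp.ext fun m => ?_))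
      simpa using RingHom.mem_ker.mp (h (Ideal.subset_span ⟨x, hx, m, rfl⟩))
  have hpts : ∀ (C : Type u) [CommRing C] (k : MonoidAlgebra A M →+* C), I ≤ RingHom.ker k ↔
      Spec.map (CommRingCat.ofHom k) ≫ w ≫ u.left = Spec.map (CommRingCat.ofHom k) ≫ w ≫ v.left := by
    intro C _ k
    rw [← hI]
    constructor
    · rintro ⟨z, hz⟩
      have h1 : w ≫ u.left = d ≫ pullback.fst _ _ := (pullback.lift_fst _ _ _).symm
      have h2 : w ≫ v.left = d ≫ pullback.snd _ _ := (pullback.lift_snd _ _ _).symm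
      rw [h1, h2, ← hz, Category.assoc, Category.assoc, ← pullback.condition_assoc, ← pullback.condition_assoc,
        pullback.diagonal_fst, pullback.diagonal_snd]
    · intro h
      refine ⟨pullback.lift (Spec.map (CommRingCat.ofHom k) ≫ w ≫ u.left) (Spec.map (CommRingCat.ofHom k)) ?_,
        pullback.lift_snd _ _ _⟩
      apply pullback.hom_ext
      · simp [d]
      · simp [d, h]
  refine ⟨c, fun hft => ?_, fun B _ f => ?_⟩
  · haveI : LocallyOfFinitePresentation (pullback.diagonal G.hom) :=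
      FibrewiseCrit.locallyOfFinitePresentation_of_comp _ (pullback.fst G.hom G.hom)
        (by rw [pullback.diagonal_fst]; infer_instance) inferInstance
    haveI : LocallyOfFinitePresentation E' := inferInstance
    obtain ⟨c', hc'fg, hc'⟩ := CoeffLocus.exists_coeff_ideal I (hIfg inferInstance)
    have : c = c' := le_antisymm
      (Ideal.mk_ker (I := c') ▸ (hc _ _).mp ((hc' _ (Ideal.Quotient.mk c')).mpr Ideal.mk_ker.ge))
      (Ideal.mk_ker (I := c) ▸ (hc' _ _).mp ((hc _ (Ideal.Quotient.mk c)).mpr Ideal.mk_ker.ge))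
    rwa [this]
  · letI := f.toAlgebra
    have hincl : (incl A B M : MonoidAlgebra A M →+* MonoidAlgebra B M) = MonoidAlgebra.mapRingHom M f :=
      FactLocus.incl_eq_mapRingHom A B M
    rw [← hc]
    constructor
    · intro h
      rw [← hincl, hpts]
      let Z : Over S := (Over.map t).obj (sp A (MonoidAlgebra B M))
      let p : Z ⟶ Over.mk (Spec.map (CommRingCat.ofHom f) ≫ t) :=
        Over.homMk (Spec.map (CommRingCat.ofHom (algebraMap B (MonoidAlgebra B M)))) (by
          show Spec.map _ ≫ Spec.map (CommRingCat.ofHom (algebraMap A B)) ≫ t = Spec.map _ ≫ t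
          rw [← Category.assoc, ← Spec.map_comp, ← CommRingCat.ofHom_comp, ← IsScalarTower.algebraMap_eq])
      have := congrArg CommaMorphism.left (h Z p ((Over.map t).map (pt (incl A B M)) ≫ downP t e))
      simp only [Over.comp_left, Category.assoc] at this
      exact this
    · intro hle Y p y
      let Z : Over (Spec (CommRingCat.of A)) := Over.mk (p.left ≫ Spec.map (CommRingCat.ofHom f))
      let i : (Over.map t).obj Z ≅ Y := Over.isoMk (Iso.refl _) (by
        show 𝟙 _ ≫ Y.hom = (p.left ≫ Spec.map _) ≫ t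
        rw [Category.id_comp, Category.assoc]
        exact (Over.w p).symm)
      have key : upP t (i.hom ≫ y) ≫ (Over.pullback t).map u = upP t (i.hom ≫ y) ≫ (Over.pullback t).map v := by
        refine hom_ext_affine _ _ fun C _ _ g => ?_
        obtain ⟨k, hk⟩ := pt_surjective (g ≫ upP t (i.hom ≫ y) ≫ inv e)
        have hk' : g ≫ upP t (i.hom ≫ y) = pt k ≫ e := by simp [hk]
        rw [← Category.assoc, ← Category.assoc g, hk']
        apply (Over.mapPullbackAdj t).homEquiv _ _ |>.symm.injective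
        show downP t _ = downP t _
        rw [downP_comp_map, downP_comp_map, downP_comp]
        apply Over.OverMorphism.ext
        have hC : I ≤ RingHom.ker (k : MonoidAlgebra A M →+* C) := by
          have hf0 : ∃ φ : B →+* C, φ.comp f = algebraMap A C := by
            refine ⟨(Spec.preimage (g.left ≫ p.left)).hom, ?_⟩
            have hg : g.left ≫ p.left ≫ Spec.map (CommRingCat.ofHom f) =
                Spec.map (CommRingCat.ofHom (algebraMap A C)) := Over.w g
            have e1 : CommRingCat.ofHom f ≫ Spec.preimage (g.left ≫ p.left) = CommRingCat.ofHom (algebraMap A C) :=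
              Spec.map_injective (by rw [Spec.map_comp, Spec.map_preimage, Category.assoc]; exact hg)
            exact congrArg CommRingCat.Hom.hom e1
          obtain ⟨φ, hφ⟩ := hf0
          intro x hx
          let k' : MonoidAlgebra B M →+* C :=
            MonoidAlgebra.liftNCRingHom φ ((k : MonoidAlgebra A M →* C).comp (MonoidAlgebra.of A M)) fun _ _ => mul_comm _ _
          have : (k : MonoidAlgebra A M →+* C) = k'.comp (MonoidAlgebra.mapRingHom M f) :=
            MonoidAlgebra.ringHom_ext (fun r => by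
              have := RingHom.congr_fun hφ r
              simp [k', MonoidAlgebra.liftNCRingHom] at this ⊢
              rw [this, show k (MonoidAlgebra.single 1 1) = 1 from map_one k, _root_.mul_one]; exact k.commutes r)
              (fun m => by simp [k', MonoidAlgebra.liftNCRingHom])
          rw [RingHom.mem_ker, this, RingHom.comp_apply, RingHom.mem_ker.mp (hle hx), map_zero]
        have := (hpts C (k : MonoidAlgebra A M →+* C)).mp hC
        simp only [Over.comp_left, Category.assoc]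
        exact this
      have h5 := congrArg (downP t) key
      rw [downP_comp_map, downP_comp_map, downP_upP, Category.assoc, Category.assoc] at h5
      exact (cancel_epi i.hom).mp h5

/-- a closed immersion cut out by finitely generated ideals is of finite presentation -/
theorem locallyOfFinitePresentation_of_fg {T Z : Scheme.{u}} (jj : Z ⟶ T) [IsClosedImmersion jj]
    (h : ∀ U : T.affineOpens, ∃ I : Ideal Γ(T, U), I.FG ∧ ∀ (C : CommRingCat.{u}) (φ : Γ(T, U) ⟶ C),
      (∃ z, z ≫ jj = Spec.map φ ≫ U.2.fromSpec) ↔ I ≤ RingHom.ker φ.hom) : LocallyOfFinitePresentation jj := by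
  rw [IsZariskiLocalAtTarget.iff_of_iSup_eq_top (P := @LocallyOfFinitePresentation) _ (iSup_affineOpens_eq_top T)]
  intro U
  obtain ⟨I, hI, hcrit⟩ := h U
  let σ := pullback.snd jj U.2.fromSpec
  obtain ⟨I', -, hI'⟩ := FactLocus.exists_ker_criterion (R := Γ(T, U)) σ
  have heq : ∀ (C : Type u) [CommRing C] (k : Γ(T, U) →+* C), I' ≤ RingHom.ker k ↔ I ≤ RingHom.ker k := by
    intro C _ k
    refine (hI' C k).symm.trans (Iff.trans ?_ (hcrit (CommRingCat.of C) (CommRingCat.ofHom k)))
    constructor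
    · rintro ⟨z, hz⟩
      exact ⟨z ≫ pullback.fst _ _, by rw [Category.assoc, pullback.condition, reassoc_of% hz]⟩
    · rintro ⟨z, hz⟩
      exact ⟨pullback.lift z (Spec.map (CommRingCat.ofHom k)) hz, pullback.lift_snd _ _ _⟩
  obtain ⟨J, eJ, hσ⟩ := (IsClosedImmersion.Spec_iff (R := Γ(T, U)) (f := σ)).mp inferInstance
  have hJI : J = I := by
    have h1 : ∀ (C : Type u) [CommRing C] (k : Γ(T, U) →+* C), J ≤ RingHom.ker k → I ≤ RingHom.ker k := by
      intro C _ k hk
      rw [← heq, ← hI']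
      refine ⟨Spec.map (CommRingCat.ofHom (Ideal.Quotient.lift J k hk)) ≫ eJ.inv, ?_⟩
      rw [Category.assoc, hσ, Iso.inv_hom_id_assoc, ← Spec.map_comp]
      rfl
    refine le_antisymm (fun x hx => ?_) ((h1 _ (Ideal.Quotient.mk J) Ideal.mk_ker.ge).trans Ideal.mk_ker.le)
    obtain ⟨z, hz⟩ := (hI' _ (Ideal.Quotient.mk I)).mpr ((heq _ _).mpr Ideal.mk_ker.ge)
    have : CommRingCat.ofHom (Ideal.Quotient.mk J) ≫ Spec.preimage (z ≫ eJ.hom) = CommRingCat.ofHom (Ideal.Quotient.mk I) :=
      Spec.map_injective (by rw [Spec.map_comp, Spec.map_preimage, Category.assoc, ← hσ]; exact hz)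
    have h2 := congrArg (fun f => f.hom x) this
    simp [Ideal.Quotient.eq_zero_iff_mem.mpr hx] at h2
    exact Ideal.Quotient.eq_zero_iff_mem.mp h2.symm
  subst hJI
  have hq : LocallyOfFinitePresentation σ := by
    rw [hσ]
    haveI : LocallyOfFinitePresentation (Spec.map (CommRingCat.ofHom (Ideal.Quotient.mk J))) := by
      rw [HasRingHomProperty.Spec_iff (P := @LocallyOfFinitePresentation)]
      show RingHom.FinitePresentation (Ideal.Quotient.mk J)
      exact RingHom.FinitePresentation.of_surjective _ Ideal.Quotient.mk_surjective (by rw [Ideal.mk_ker]; exact hI)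
    infer_instance
  have := (MorphismProperty.arrow_mk_iso_iff @LocallyOfFinitePresentation
    (morphismRestrictOpensRange jj U.2.fromSpec)).mpr hq
  exact (MorphismProperty.arrow_mk_iso_iff @LocallyOfFinitePresentation
    (morphismRestrictEq jj U.2.opensRange_fromSpec)).mp this

theorem exists_closed_eqLocus (hH : IsMT H) [IsSeparated G.hom] (u v : H ⟶ G) :
    ∃ (Z : Scheme.{u}) (jj : Z ⟶ S), IsClosedImmersion jj ∧ (LocallyOfFiniteType G.hom → LocallyOfFinitePresentation jj) ∧
      ∀ {T : Scheme.{u}} (g : T ⟶ S), (∃ z : T ⟶ Z, z ≫ jj = g) ↔ Eqz u v g := by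
  classical
  obtain ⟨S', f, hflat, hsurj, hcov, hloc⟩ := hH
  haveI : Flat f := hflat
  have haff : ∀ U : S.affineOpens, ∃ I : Ideal Γ(S, U), (LocallyOfFiniteType G.hom → I.FG) ∧
      ∀ (C : CommRingCat.{u}) (φ : Γ(S, U) ⟶ C), Eqz u v (Spec.map φ ≫ U.2.fromSpec) ↔ I ≤ RingHom.ker φ.hom := by
    intro U
    obtain ⟨W, hWc, hW⟩ := hcov U.1 U.2
    have hq : ∀ q : W, ∃ (V : S'.Opens) (hV : IsAffineOpen V) (M : Type) (_ : CommGroup M), q.1 ∈ V ∧ (V : Set S') ⊆ W ∧
        Nonempty (Grp.mk (Red.bc (hV.fromSpec ≫ f) H) ≅ Grp.mk (sp Γ(S', V) (MonoidAlgebra Γ(S', V) M))) := by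
      intro q
      obtain ⟨O, hqO, M, _, hE⟩ := hloc q.1
      obtain ⟨_, ⟨V, hV, rfl⟩, hqV, hVO⟩ := S'.isBasis_affineOpens.exists_subset_of_mem_open
        (show q.1 ∈ (O : Set S') ∩ W from ⟨hqO, q.2⟩) (O.isOpen.inter W.isOpen)
      replace hV : IsAffineOpen V := hV
      let j : Spec (CommRingCat.of Γ(S', V)) ⟶ O := IsOpenImmersion.lift O.ι hV.fromSpec (by
        intro z hz; exact (Scheme.Opens.range_ι O).ge (hVO (hV.range_fromSpec.le hz)).1)
      exact ⟨V, hV, Multiplicative M, inferInstance, hqV, fun x hx => (hVO hx).2,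
        exists_chart_affine j (O.ι ≫ f) (hV.fromSpec ≫ f) (by rw [← Category.assoc, IsOpenImmersion.lift_fac]) H hE⟩
    choose V hV M instM hqV hVW hchart using hq
    obtain ⟨s, hs⟩ := hWc.elim_finite_subcover (fun q : W => (V q : Set S')) (fun q => (V q).isOpen)
      (fun q hq => Set.mem_iUnion.mpr ⟨⟨q, hq⟩, hqV _⟩)
    have hle : ∀ q, V q ≤ f ⁻¹ᵁ U.1 := fun q x hx => hW.le ⟨x, hVW q hx, rfl⟩
    letI : ∀ q : s, Algebra Γ(S, U) Γ(S', V q.1) := fun q => (f.appLE U.1 (V q.1) (hle _)).hom.toAlgebra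
    haveI : ∀ q : s, Module.Flat Γ(S, U) Γ(S', V q.1) := fun q =>
      RingHom.flat_algebraMap_iff.mp (f.flat_appLE U.2 (hV _) (hle _))
    have hfs : ∀ q : s, Spec.map (CommRingCat.ofHom (algebraMap Γ(S, U) Γ(S', V q.1))) ≫ U.2.fromSpec =
        (hV q.1).fromSpec ≫ f := fun q => IsAffineOpen.SpecMap_appLE_fromSpec f U.2 (hV _) (hle _)
    have hpiece : ∀ q : s, ∃ c : Ideal Γ(S', V q.1), (LocallyOfFiniteType G.hom → c.FG) ∧
        ∀ (B : Type u) [CommRing B] (g : Γ(S', V q.1) →+* B),
          Eqz u v (Spec.map (CommRingCat.ofHom g) ≫ (hV q.1).fromSpec ≫ f) ↔ c ≤ RingHom.ker g := fun q => by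
      letI := instM q.1
      exact exists_eq_chart ((hV q.1).fromSpec ≫ f) (hchart q.1) u v
    choose c hcfg hc using hpiece
    let P : ∀ {C : Type u} [CommRing C], (Γ(S, U) →+* C) → Prop :=
      fun {C} _ φ => Eqz u v (Spec.map (CommRingCat.ofHom φ) ≫ U.2.fromSpec)
    have hsurj' : ∀ p : PrimeSpectrum Γ(S, U), ∃ (q : s) (r : PrimeSpectrum Γ(S', V q.1)),
        PrimeSpectrum.comap (algebraMap Γ(S, U) Γ(S', V q.1)) r = p := by
      intro p
      obtain ⟨x, hx, hxp⟩ := hW.ge (U.2.range_fromSpec.le ⟨p, rfl⟩)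
      obtain ⟨q, hq⟩ := Set.mem_iUnion.mp (hs hx)
      obtain ⟨hqs, hxq⟩ := Set.mem_iUnion.mp hq
      obtain ⟨r, hr⟩ := (hV q).range_fromSpec.ge hxq
      refine ⟨⟨q, hqs⟩, r, U.2.fromSpec.isOpenEmbedding.injective ?_⟩
      show U.2.fromSpec (Spec.map (CommRingCat.ofHom (algebraMap Γ(S, U) Γ(S', V (⟨q, hqs⟩ : s).1))) r) = _
      have := congrArg (fun φ => φ r) (hfs ⟨q, hqs⟩)
      simp only [Scheme.Hom.comp_apply] at this
      refine this.trans ?_
      rw [← hxp]
      exact congrArg f hr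
    obtain ⟨J, hJ, hJfg⟩ := exists_descended_ideal (fun q : s => Γ(S', V q.1)) hsurj' P
      (fun {C D} _ _ φ g hφ => by
        have := hφ.comp (Spec.map (CommRingCat.ofHom g))
        rwa [← Category.assoc, ← Spec.map_comp, ← CommRingCat.ofHom_comp] at this)
      (fun {C} _ _ hC => by
        haveI : ∀ q : s, Flat (Spec.map (CommRingCat.ofHom (Algebra.TensorProduct.includeRight :
            C →ₐ[Γ(S, U)] TensorProduct Γ(S, U) Γ(S', V q.1) C).toRingHom)) := fun q => by
          rw [HasRingHomProperty.Spec_iff (P := @Flat)]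
          have h1 : (algebraMap C (TensorProduct Γ(S, U) C Γ(S', V q.1))).Flat :=
            RingHom.flat_algebraMap_iff.mpr inferInstance
          have h2 := RingHom.Flat.respectsIso.1 _
            (Algebra.TensorProduct.comm Γ(S, U) C Γ(S', V q.1)).toRingEquiv h1
          show RingHom.Flat (Algebra.TensorProduct.includeRight :
            C →ₐ[Γ(S, U)] TensorProduct Γ(S, U) Γ(S', V q.1) C).toRingHom
          rw [show (Algebra.TensorProduct.includeRight : C →ₐ[Γ(S, U)] TensorProduct Γ(S, U) Γ(S', V q.1) C).toRingHom =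
            (Algebra.TensorProduct.comm Γ(S, U) C Γ(S', V q.1)).toRingEquiv.toRingHom.comp (algebraMap C _) from
            RingHom.ext fun c => rfl]
          exact h2
        refine eqz_of_cover_family _ (fun q : s => Spec (CommRingCat.of (TensorProduct Γ(S, U) Γ(S', V q.1) C)))
          (fun q => Spec.map (CommRingCat.ofHom (Algebra.TensorProduct.includeRight :
            C →ₐ[Γ(S, U)] TensorProduct Γ(S, U) Γ(S', V q.1) C).toRingHom)) ?_ fun q => ?_
        · intro x
          obtain ⟨q, r, hr⟩ := hsurj' (PrimeSpectrum.comap (algebraMap Γ(S, U) C) x)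
          obtain ⟨z, -, hz⟩ := Scheme.Pullback.exists_preimage_pullback
            (f := Spec.map (CommRingCat.ofHom (algebraMap Γ(S, U) Γ(S', V q.1))))
            (g := Spec.map (CommRingCat.ofHom (algebraMap Γ(S, U) C))) r x hr
          refine ⟨q, (pullbackSpecIso Γ(S, U) Γ(S', V q.1) C).hom z, ?_⟩
          rw [← Scheme.Hom.comp_apply]
          erw [pullbackSpecIso_hom_snd]
          exact hz
        · rw [← Category.assoc, ← Spec.map_comp, ← CommRingCat.ofHom_comp]
          convert hC q using 4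
          exact RingHom.ext fun a => (Algebra.TensorProduct.includeRight :
            C →ₐ[Γ(S, U)] TensorProduct Γ(S, U) Γ(S', V q.1) C).commutes a)
      c (fun q {C} _ g => by
        show Eqz u v (Spec.map (CommRingCat.ofHom (g.comp (algebraMap _ _))) ≫ U.2.fromSpec) ↔ _
        rw [CommRingCat.ofHom_comp, Spec.map_comp, Category.assoc, hfs]
        exact hc q C g)
    exact ⟨J, fun h => hJfg fun q => hcfg q h, fun C φ => hJ φ.hom⟩
  choose I hIfg hI using haff
  obtain ⟨Z, jj, hι, hZ⟩ := CenterRep.exists_closed_of_affine (T := S) (fun {T} g => Eqz u v g)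
    (fun h g hg => hg.comp h)
    (fun {T} g 𝒰 hg => eqz_of_cover_family g 𝒰.X 𝒰.f (fun x => ⟨_, 𝒰.covers x⟩) hg)
    (fun U => ⟨I U, hI U⟩)
  haveI := hι
  exact ⟨Z, jj, hι, fun h => locallyOfFinitePresentation_of_fg jj fun U => ⟨I U, hIfg U h, fun C φ => (hZ _).trans (hI U C φ)⟩,
    fun g => hZ g⟩

end Groth.Agent.Transporter
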