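import Groth.Agent.Transporter.EqLocus
import Groth.Agent.CentralDescent.Points
import Groth.Agent.FSmooth.Criterion
import Groth.Agent.ConjInt.Global

/-!
The transporter of a homomorphism out of a group of multiplicative type into another one.
-/

universe u

open CategoryTheory Limits MonoidalCategory CartesianMonoidalCategory MonObj GrpObj AlgebraicGeometry
open CoactBr Groth.Agent.DiagGrp Groth.Agent.DiagAction Groth.Agent.CentralDescent

set_option backward.isDefEq.respectTransparency false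
set_option linter.style.haveILetI false

noncomputable section

namespace Groth.Agent.Transporter

variable {S : Scheme.{u}} {H G : Over S} [GrpObj H] [GrpObj G]

/-- `g` carries `u₁` to `u₂` -/
def Transports (u₁ u₂ : H ⟶ G) {X : Over S} (g : X ⟶ G) : Prop :=
  ∀ (X' : Over S) (x : X' ⟶ X) (h : X' ⟶ H), (x ≫ g) * (h ≫ u₁) * (x ≫ g)⁻¹ = h ≫ u₂

theorem exists_transporter (hH : IsMT H) [IsSeparated G.hom] (u₁ u₂ : H ⟶ G) [IsMonHom u₁] [IsMonHom u₂] :
    ∃ (T : Over S) (j : T ⟶ G), IsClosedImmersion j.left ∧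
      (∀ (X : Over S) (g : X ⟶ G), (∃ z : X ⟶ T, z ≫ j = g) ↔ Transports u₁ u₂ g) ∧
      (LocallyOfFiniteType G.hom → LocallyOfFinitePresentation j.left) ∧ (Smooth G.hom → Smooth T.hom) := by
  let t := G.hom
  let gY (Z : Over G.left) : (Over.map t).obj Z ⟶ G := Over.homMk Z.hom
  have hgY : ∀ (Z Z' : Over G.left) (a : Z ⟶ Z'), (Over.map t).map a ≫ gY Z' = gY Z := fun Z Z' a =>
    Over.OverMorphism.ext (Over.w a)
  let ub := (Over.pullback t).map u₂
  let c : Red.bc t H ⟶ Red.bc t G := upP t (gY _) * (Over.pullback t).map u₁ * (upP t (gY _))⁻¹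
  have hpt : ∀ (Z : Over G.left) (a : Z ⟶ Red.bc t H), downP t (a ≫ c) = gY Z * (downP t a ≫ u₁) * (gY Z)⁻¹ := by
    intro Z a
    have h1 : downP t (a ≫ upP t (gY _)) = gY Z := by rw [downP_comp, downP_upP, hgY]
    simp only [c, MonObj.comp_mul, GrpObj.comp_inv]
    rw [eq_mul_inv_iff_mul_eq, ← h1, ← downP_comp_map, ← downP_mul, ← downP_mul, inv_mul_cancel_right]
  haveI : IsSeparated (Red.bc t G).hom := inferInstanceAs (IsSeparated (pullback.snd G.hom t))
  obtain ⟨Z₀, jj, hjj, hfp, hZ⟩ := exists_closed_eqLocus (isMT_bc t H hH) c ub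
  haveI := hjj
  let T : Over S := Over.mk (jj ≫ t)
  let j : T ⟶ G := Over.homMk jj
  have hT : ∀ (X : Over S) (g : X ⟶ G), (∃ z : X ⟶ T, z ≫ j = g) ↔ Transports u₁ u₂ g := by
    intro X g
    constructor
    · rintro ⟨z, rfl⟩ X' x h
      let Z : Over G.left := Over.mk (x ≫ z ≫ j).left
      let i : (Over.map t).obj Z ≅ X' := Over.isoMk (Iso.refl _) ((Category.id_comp _).trans (Over.w (x ≫ z ≫ j)).symm)
      have := congrArg (downP t) ((hZ (z ≫ j).left).mp ⟨z.left, rfl⟩ Z (Over.homMk x.left rfl) (upP t (i.hom ≫ h)))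
      rw [hpt, downP_comp_map, downP_upP,
        show gY Z = i.hom ≫ x ≫ z ≫ j from Over.OverMorphism.ext (Category.id_comp _).symm] at this
      rw [← cancel_epi i.hom, MonObj.comp_mul, MonObj.comp_mul, GrpObj.comp_inv]
      simpa only [Category.assoc] using this
    · intro hg
      obtain ⟨z, hz⟩ := (hZ g.left).mpr fun Y p a => by
        apply (Over.mapPullbackAdj t).homEquiv _ _ |>.symm.injective
        show downP t _ = downP t _
        rw [hpt, downP_comp_map]
        let x : (Over.map t).obj Y ⟶ X := Over.homMk p.left (by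
          show p.left ≫ X.hom = Y.hom ≫ t
          rw [← Over.w g, ← Category.assoc]
          congr 1
          exact Over.w p)
        rw [show gY Y = x ≫ g from Over.OverMorphism.ext (Over.w p).symm]
        exact hg _ x _
      exact ⟨Over.homMk z (by rw [← Over.w g, ← hz, Category.assoc]; rfl), Over.OverMorphism.ext hz⟩
  refine ⟨T, j, hjj, hT, fun h => ?_, fun hG => ?_⟩
  · haveI : LocallyOfFiniteType (Red.bc t G).hom := inferInstanceAs (LocallyOfFiniteType (pullback.snd G.hom t))
    exact hfp inferInstance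
  haveI : LocallyOfFiniteType (Red.bc t G).hom := inferInstanceAs (LocallyOfFiniteType (pullback.snd G.hom t))
  haveI := hfp inferInstance
  refine (Groth.FSmooth.smooth_iff T.hom).mpr ⟨inferInstanceAs (LocallyOfFinitePresentation (jj ≫ t)), ?_⟩
  intro A _ I hI a b w
  obtain ⟨l₀, hl₀, hl₀t⟩ := ((Groth.FSmooth.smooth_iff G.hom).mp hG).2 A I hI (a ≫ jj) b
    (by rw [w, Category.assoc]; rfl)
  let Hr := Red.bc b H
  let Gr := Red.bc b G
  let X1 : Over S := Over.mk b
  let e : (Over.map b).obj (𝟙_ (Over (Spec (CommRingCat.of A)))) ≅ X1 :=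
    Over.isoMk (Iso.refl _) ((Category.id_comp _).trans (Category.id_comp _).symm)
  let gl : 𝟙_ (Over (Spec (CommRingCat.of A))) ⟶ Gr := upP b (e.hom ≫ (Over.homMk l₀ hl₀t : X1 ⟶ G))
  let u' : Hr ⟶ Gr := (toUnit _ ≫ gl) * (Over.pullback b).map u₁ * (toUnit _ ≫ gl)⁻¹
  have hcomp : ∀ (Y : Over (Spec (CommRingCat.of A))) (z : Y ⟶ Hr),
      z ≫ u' = (toUnit _ ≫ gl) * (z ≫ (Over.pullback b).map u₁) * (toUnit _ ≫ gl)⁻¹ := by
    intro Y z
    simp only [u', MonObj.comp_mul, GrpObj.comp_inv]
    rw [← Category.assoc, toUnit_unique (z ≫ toUnit _) (toUnit Y)]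
  haveI : IsMonHom u' := isMonHom_of_mul u' fun Y p q => by
    simp only [hcomp, MonObj.mul_comp]
    group
  let X0 : Over S := Over.mk (Spec.map (CommRingCat.ofHom (Ideal.Quotient.mk I)) ≫ b)
  let g0 : X0 ⟶ G := Over.homMk (a ≫ jj) (by
    show (a ≫ jj) ≫ t = _
    rw [Category.assoc]
    exact w.symm)
  have h0 : Transports u₁ u₂ g0 := (hT X0 g0).mp ⟨Over.homMk a w.symm, Over.OverMorphism.ext rfl⟩
  obtain ⟨g, hg1, hgc⟩ := Groth.Agent.ConjInt.exists_conj hI (isMT_bc b H hH) u' ((Over.pullback b).map u₂)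
    fun B _ _ hB z => by
      apply (Over.mapPullbackAdj b).homEquiv _ _ |>.symm.injective
      show downP b _ = downP b _
      rw [hcomp, downP_comp_map]
      let x : (Over.map b).obj (sp A B) ⟶ X0 :=
        Over.homMk (Spec.map (CommRingCat.ofHom (Ideal.Quotient.lift I (algebraMap A B) hB))) (by
          show Spec.map _ ≫ Spec.map _ ≫ b = Spec.map _ ≫ b
          rw [← Category.assoc, ← Spec.map_comp, ← CommRingCat.ofHom_comp, Ideal.Quotient.lift_comp_mk])
      have hx : downP b (toUnit (sp A B) ≫ gl) = x ≫ g0 := by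
        rw [downP_comp, downP_upP]
        apply Over.OverMorphism.ext
        show (toUnit (sp A B)).left ≫ 𝟙 _ ≫ l₀ = Spec.map _ ≫ a ≫ jj
        rw [Category.id_comp, ← hl₀, ← Category.assoc, ← Spec.map_comp, ← CommRingCat.ofHom_comp,
          Ideal.Quotient.lift_comp_mk]
        rfl
      rw [← h0 _ x (downP b z), eq_mul_inv_iff_mul_eq, ← hx, ← downP_comp_map, ← downP_mul, ← downP_mul,
        inv_mul_cancel_right]
  let g1 : X1 ⟶ G := e.inv ≫ downP b (g * gl)
  obtain ⟨z, hz⟩ := (hT X1 g1).mpr fun X' x h => by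
    let Z : Over (Spec (CommRingCat.of A)) := Over.mk x.left
    let i : (Over.map b).obj Z ≅ X' := Over.isoMk (Iso.refl _) ((Category.id_comp _).trans (Over.w x).symm)
    have := congrArg (downP b) (hgc Z (upP b (i.hom ≫ h)))
    rw [hcomp, downP_comp_map, downP_upP] at this
    have hg : downP b (toUnit Z ≫ (g * gl)) = i.hom ≫ x ≫ g1 := by
      rw [downP_comp]
      simp only [g1, ← Category.assoc]
      congr 1
    rw [← cancel_epi i.hom, MonObj.comp_mul, MonObj.comp_mul, GrpObj.comp_inv]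
    simp only [← Category.assoc] at this ⊢
    simp only [Category.assoc] at this ⊢
    rw [this, ← hg, ← Category.assoc, eq_comm, eq_mul_inv_iff_mul_eq]
    rw [show i.hom ≫ h = downP b (upP b (i.hom ≫ h)) from (downP_upP _ _).symm, ← downP_comp_map, ← downP_mul,
      ← downP_mul, MonObj.comp_mul]
    congr 1
    rw [upP_downP] <;> group
  refine ⟨z.left, ?_, Over.w z⟩
  have hz' : z.left ≫ jj = g1.left := congrArg CommaMorphism.left hz
  rw [← cancel_mono jj, Category.assoc, hz', ← hl₀]
  let M : Over (Spec (CommRingCat.of A)) := Over.mk (Spec.map (CommRingCat.ofHom (Ideal.Quotient.mk I)))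
  have h1 : toUnit M ≫ (g * gl) = toUnit M ≫ gl := by rw [MonObj.comp_mul, hg1, _root_.one_mul]
  have h2 := congrArg CommaMorphism.left (congrArg (downP b) h1)
  rw [downP_comp, downP_comp, downP_upP] at h2
  simp only [Over.comp_left] at h2
  show Spec.map _ ≫ 𝟙 _ ≫ (downP b (g * gl)).left = _
  rw [Category.id_comp]
  have h3 : (toUnit M).left = Spec.map (CommRingCat.ofHom (Ideal.Quotient.mk I)) :=
    (Category.comp_id _).symm.trans (Over.w (toUnit M))
  erw [h3] at h2
  exact h2.trans (congrArg _ (Category.id_comp l₀))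

end Groth.Agent.Transporter
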