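import Groth.Agent.Transporter.EqLocus
import Groth.Agent.FpqcDescent.Basic

/-!
Monomorphisms of groups of multiplicative type into affine groups are closed immersions.
-/

universe u

open CategoryTheory Limits MonoidalCategory CartesianMonoidalCategory MonObj GrpObj AlgebraicGeometry
open CoactBr Groth.Agent.DiagGrp Groth.Agent.DiagAction

set_option backward.isDefEq.respectTransparency false
set_option linter.style.haveILetI false

noncomputable section

namespace Groth.Agent.Transporter

open scoped TensorProduct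

/-- a subalgebra of a group algebra which is graded, stable under inversion and separates points is everything -/
theorem eq_top_of_graded {A : Type u} [CommRing A] {M : Type} [CommGroup M] (C : Subalgebra A (MonoidAlgebra A M))
    (hgr : ∀ x ∈ C, ∀ m, MonoidAlgebra.single m (x.coeff m) ∈ C)
    (hinv : ∀ m a, MonoidAlgebra.single m a ∈ C → MonoidAlgebra.single m⁻¹ a ∈ C)
    (hsep : ∀ (K : Type u) [CommRing K] [Algebra A K] (k₁ k₂ : MonoidAlgebra A M →ₐ[A] K),
      (∀ x ∈ C, k₁ x = k₂ x) → k₁ = k₂) : C = ⊤ := by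
  classical
  let I : M → Ideal A := fun m => Submodule.comap (MonoidAlgebra.lsingle (R := A) m) C.toSubmodule
  have hI : ∀ m, I m = ⊤ := by
    intro m₀
    by_contra hne
    obtain ⟨P, hP, hle⟩ := Ideal.exists_le_maximal _ hne
    have hmul : ∀ m n, ∀ a ∈ I m, ∀ b ∈ I n, a * b ∈ I (m * n) := fun m n a ha b hb => by
      have := C.mul_mem ha hb
      show MonoidAlgebra.single (m * n) (a * b) ∈ C
      rw [← MonoidAlgebra.single_mul_single]
      exact this
    let N : Subgroup M :=
      { carrier := {m | ¬ I m ≤ P}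
        one_mem' := fun h => hP.ne_top ((Ideal.eq_top_iff_one _).mpr (h (show MonoidAlgebra.single 1 (1 : A) ∈ C from C.one_mem)))
        mul_mem' := fun {m n} hm hn h => by
          obtain ⟨a, ha, haP⟩ := SetLike.not_le_iff_exists.mp hm
          obtain ⟨b, hb, hbP⟩ := SetLike.not_le_iff_exists.mp hn
          exact (hP.isPrime.mem_or_mem (h (hmul m n a ha b hb))).elim haP hbP
        inv_mem' := fun {m} hm h => by
          obtain ⟨a, ha, haP⟩ := SetLike.not_le_iff_exists.mp hm
          exact haP (h (hinv m a ha)) }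
    let K := MonoidAlgebra (A ⧸ P) (M ⧸ N)
    let k₁ : MonoidAlgebra A M →ₐ[A] K :=
      MonoidAlgebra.lift A K M ((MonoidAlgebra.of (A ⧸ P) (M ⧸ N)).comp (QuotientGroup.mk' N))
    let k₂ : MonoidAlgebra A M →ₐ[A] K := MonoidAlgebra.lift A K M 1
    have hk : k₁ = k₂ := by
      refine hsep K k₁ k₂ fun x hx => ?_
      rw [← MonoidAlgebra.sum_coeff_single x, Finsupp.sum, map_sum, map_sum]
      refine Finset.sum_congr rfl fun m _ => ?_
      simp only [k₁, k₂, MonoidAlgebra.lift_single]
      by_cases hm : m ∈ N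
      · have : QuotientGroup.mk' N m = 1 := (QuotientGroup.eq_one_iff m).mpr hm
        rw [MonoidHom.comp_apply, this, map_one, MonoidHom.one_apply]
      · have h0 : x.coeff m ∈ P := (not_not.mp hm) (hgr x hx m)
        have h0' : (x.coeff m) • (1 : K) = 0 := by
          rw [← algebraMap_smul (A ⧸ P) (x.coeff m) (1 : K), show algebraMap A (A ⧸ P) (x.coeff m) = 0 from
            Ideal.Quotient.eq_zero_iff_mem.mpr h0, zero_smul]
        rw [Algebra.smul_def, _root_.mul_one] at h0'
        rw [Algebra.smul_def, Algebra.smul_def, h0', zero_mul, zero_mul]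
    haveI : Nontrivial (A ⧸ P) := Ideal.Quotient.nontrivial_iff.mpr hP.ne_top
    have h1 := congrArg (fun k => k (MonoidAlgebra.single m₀ (1 : A))) hk
    simp only [k₁, k₂, MonoidAlgebra.lift_single, one_smul, MonoidHom.one_apply] at h1
    rw [MonoidHom.comp_apply, MonoidAlgebra.of_apply, MonoidAlgebra.one_def] at h1
    have h2 : QuotientGroup.mk' N m₀ = 1 := MonoidAlgebra.single_left_injective one_ne_zero h1
    exact ((QuotientGroup.eq_one_iff m₀).mp h2) hle
  rw [eq_top_iff]
  intro x _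
  rw [← MonoidAlgebra.sum_coeff_single x]
  exact C.sum_mem fun m _ => (show x.coeff m ∈ I m by rw [hI m]; trivial)

theorem isClosedImmersion_of_mono_affine {A : Type u} [CommRing A] {M : Type} [CommGroup M]
    {G : Over (Spec (CommRingCat.of A))} [GrpObj G] [IsAffineHom G.hom] (w : sp A (MonoidAlgebra A M) ⟶ G)
    [IsMonHom w] [Mono w] : IsClosedImmersion w.left := by
  classical
  haveI : IsAffine G.left := isAffine_of_isAffineHom G.hom
  let B := Γ(G.left, ⊤)
  let ψ : CommRingCat.of A ⟶ B := Spec.preimage (G.left.isoSpec.inv ≫ G.hom)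
  letI : Algebra A B := ψ.hom.toAlgebra
  let e : sp A B ≅ G := Over.isoMk G.left.isoSpec.symm (by
    show G.left.isoSpec.inv ≫ G.hom = Spec.map ψ
    rw [Spec.map_preimage])
  obtain ⟨f, hf⟩ := pt_surjective (w ≫ e.inv)
  have hw : w = pt f ≫ e.hom := by rw [hf, Category.assoc, Iso.inv_hom_id, Category.comp_id]
  have hpt : ∀ {K : Type u} [CommRing K] [Algebra A K] (k : MonoidAlgebra A M →ₐ[A] K),
      pt k ≫ w = pt (k.comp f) ≫ e.hom := fun k => by rw [hw, ← Category.assoc, pt_comp]
  have hinj : ∀ {K : Type u} [CommRing K] [Algebra A K] (φ φ' : B →ₐ[A] K), pt φ ≫ e.hom = pt φ' ≫ e.hom → φ = φ' :=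
    fun φ φ' h => pt_injective ((cancel_mono e.hom).mp h)
  let iL : B →ₐ[A] B ⊗[A] B := Algebra.TensorProduct.includeLeft
  let iR : B →ₐ[A] B ⊗[A] B := Algebra.TensorProduct.includeRight
  obtain ⟨δ, hδ⟩ := pt_surjective (((pt iL ≫ e.hom) * (pt iR ≫ e.hom)) ≫ e.inv)
  have hmul : ∀ {K : Type u} [CommRing K] [Algebra A K] (x y : B →ₐ[A] K), (pt x ≫ e.hom) * (pt y ≫ e.hom) =
      pt ((Algebra.TensorProduct.lift x y fun _ _ => .all _ _).comp δ) ≫ e.hom := fun x y => by
    rw [pt_comp, Category.assoc, hδ, Category.assoc, Iso.inv_hom_id, Category.comp_id, MonObj.comp_mul,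
      ← Category.assoc, ← Category.assoc, ← pt_comp, ← pt_comp]
    congr 3 <;> ext b <;> simp [iL, iR]
  let C := f.range
  let p₁ : MonoidAlgebra A M →ₐ[A] MonoidAlgebra A (M × M) := MonoidAlgebra.mapDomainAlgHom A A (MonoidHom.inl M M)
  let p₂ : MonoidAlgebra A M →ₐ[A] MonoidAlgebra A (M × M) := MonoidAlgebra.mapDomainAlgHom A A (MonoidHom.inr M M)
  let Δ : MonoidAlgebra A M →ₐ[A] MonoidAlgebra A (M × M) := conv p₁ p₂
  have hΔs : ∀ m (a : A), Δ (MonoidAlgebra.single m a) = MonoidAlgebra.single (m, m) a := by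
    intro m a
    rw [show MonoidAlgebra.single m a = a • MonoidAlgebra.single m (1 : A) by simp, map_smul]
    simp [Δ, p₁, p₂, MonoidAlgebra.mapDomainAlgHom, MonoidAlgebra.single_mul_single]
  have hΔ : Δ.comp f = (Algebra.TensorProduct.lift (p₁.comp f) (p₂.comp f) fun _ _ => .all _ _).comp δ := by
    refine hinj _ _ ?_
    rw [← hpt, ← hmul, ← hpt, ← hpt, pt_conv, MonObj.mul_comp]
  have hgr : ∀ x ∈ C, ∀ m, MonoidAlgebra.single m (x.coeff m) ∈ C := by
    rintro _ ⟨b, rfl⟩ m
    show MonoidAlgebra.single m ((f b).coeff m) ∈ C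
    let L : MonoidAlgebra A (M × M) →ₗ[A] MonoidAlgebra A M :=
      (MonoidAlgebra.basis (M × M) A).constr A fun q => if q.2 = m then MonoidAlgebra.single q.1 1 else 0
    have hLs : ∀ q (a : A), L (MonoidAlgebra.single q a) = if q.2 = m then MonoidAlgebra.single q.1 a else 0 := by
      intro q a
      rw [show MonoidAlgebra.single q a = a • (MonoidAlgebra.basis (M × M) A) q by simp, map_smul, Module.Basis.constr_basis]
      split_ifs <;> simp
    have h1 : ∀ z, L (Δ z) = MonoidAlgebra.single m (z.coeff m) := by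
      intro z
      conv_lhs => rw [← MonoidAlgebra.sum_coeff_single z, Finsupp.sum, map_sum, map_sum]
      simp only [hΔs, hLs]
      rw [Finset.sum_ite_eq']
      split_ifs with h
      · rfl
      · rw [Finsupp.notMem_support_iff.mp h, MonoidAlgebra.single_zero]
    have h2 : ∀ c d, L (p₁ c * p₂ d) = (d.coeff m) • c := by
      intro c d
      conv_lhs => rw [← MonoidAlgebra.sum_coeff_single c, ← MonoidAlgebra.sum_coeff_single d]
      conv_rhs => rw [← MonoidAlgebra.sum_coeff_single c]
      simp only [Finsupp.sum, map_sum, Finset.sum_mul_sum, Finset.smul_sum, p₁, p₂]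
      refine Finset.sum_congr rfl fun a _ => ?_
      simp [MonoidAlgebra.mapDomainAlgHom, MonoidAlgebra.single_mul_single, hLs, Finset.sum_ite_eq', _root_.mul_comm]
      intro h
      simp [h]
    rw [show MonoidAlgebra.single m ((f b).coeff m) = L (Δ (f b)) from (h1 _).symm,
      show Δ (f b) = (Algebra.TensorProduct.lift (p₁.comp f) (p₂.comp f) fun _ _ => .all _ _) (δ b) from
        AlgHom.congr_fun hΔ b]
    induction δ b using TensorProduct.induction_on with
    | zero => rw [map_zero, map_zero]; exact C.zero_mem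
    | tmul x y =>
      rw [Algebra.TensorProduct.lift_tmul, AlgHom.comp_apply, AlgHom.comp_apply, h2]
      exact C.smul_mem ⟨x, rfl⟩ _
    | add x y hx hy => rw [map_add, map_add]; exact C.add_mem hx hy
  have hinv : ∀ m a, MonoidAlgebra.single m a ∈ C → MonoidAlgebra.single m⁻¹ a ∈ C := by
    rintro m a ⟨b, hb⟩
    let σ : MonoidAlgebra A M →ₐ[A] MonoidAlgebra A M :=
      MonoidAlgebra.mapDomainAlgHom A A ((MulEquiv.inv M).toMonoidHom)
    obtain ⟨τ, hτ⟩ := pt_surjective ((e.hom)⁻¹ ≫ e.inv)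
    have hσ : pt σ = (pt (AlgHom.id A (MonoidAlgebra A M)))⁻¹ := by
      rw [pt_inv, AlgHom.id_comp]
      congr 1
      ext m
      simp [σ, MonoidAlgebra.mapDomainAlgHom]
    have : σ.comp f = f.comp τ := by
      refine hinj _ _ ?_
      rw [← hpt, hσ, pt_comp, Category.assoc, hτ, Category.assoc, Iso.inv_hom_id, Category.comp_id, GrpObj.comp_inv,
        ← hw, GrpObj.inv_comp, pt_id, Category.id_comp]
    refine ⟨τ b, ?_⟩
    have h := AlgHom.congr_fun this b
    simp only [AlgHom.comp_apply] at h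
    show f (τ b) = _
    rw [← h]
    erw [hb]
    simp [σ, MonoidAlgebra.mapDomainAlgHom]
  have htop := eq_top_of_graded C hgr hinv fun K _ _ k₁ k₂ h => pt_injective ((cancel_mono w).mp (by
    rw [hpt, hpt, show k₁.comp f = k₂.comp f from AlgHom.ext fun b => h _ ⟨b, rfl⟩]))
  haveI : IsClosedImmersion (pt f).left := by
    rw [pt_left]
    exact IsClosedImmersion.spec_of_surjective _ fun x => htop.ge (Algebra.mem_top (x := x))
  haveI : IsIso e.hom.left := ((Over.forget _).mapIso e).isIso_hom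
  rw [hw, Over.comp_left]
  infer_instance

theorem isClosedImmersion_of_mono {S : Scheme.{u}} {H G : Over S} [GrpObj H] [GrpObj G] (hH : IsMT H)
    [IsAffineHom G.hom] (i : H ⟶ G) [IsMonHom i] [Mono i] : IsClosedImmersion i.left := by
  classical
  obtain ⟨S', f, hflat, hsurj, hcov, hloc⟩ := hH
  haveI : Flat f := hflat
  rw [IsZariskiLocalAtTarget.iff_of_iSup_eq_top (P := @IsClosedImmersion) _
    (G.hom.iSup_preimage_eq_top (iSup_affineOpens_eq_top S))]
  intro U
  obtain ⟨W, hWc, hW⟩ := hcov U.1 U.2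
  haveI : CompactSpace (W : Scheme.{u}) := isCompact_iff_compactSpace.mp hWc
  let r : (W : Scheme.{u}) ⟶ U.1 := IsOpenImmersion.lift U.1.ι (W.ι ≫ f) (by
    rw [Scheme.Hom.comp_base, TopCat.coe_comp, Set.range_comp, Scheme.Opens.range_ι, Scheme.Opens.range_ι, hW])
  have hr : r ≫ U.1.ι = W.ι ≫ f := IsOpenImmersion.lift_fac _ _ _
  haveI : Flat r := by
    haveI : Flat (r ≫ U.1.ι) := by rw [hr]; infer_instance
    exact MorphismProperty.of_postcomp (W := @Flat) (W' := @IsOpenImmersion) r U.1.ι inferInstance ‹_›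
  haveI : Surjective r := ⟨fun ⟨v, hv⟩ => by
    obtain ⟨x, hx, rfl⟩ := hW.ge hv
    refine ⟨⟨x, hx⟩, U.1.ι.isOpenEmbedding.injective ?_⟩
    rw [← Scheme.Hom.comp_apply, hr]
    rfl⟩
  haveI : IsAffine (U.1 : Scheme.{u}) := U.2
  haveI : QuasiCompact r := inferInstance
  -- pull everything back to `W`
  let P := pullback G.hom (r ≫ U.1.ι)
  let pr : P ⟶ G.left := pullback.fst G.hom (r ≫ U.1.ι)
  let q : P ⟶ (G.hom ⁻¹ᵁ U.1 : G.left.Opens) := IsOpenImmersion.lift (G.hom ⁻¹ᵁ U.1).ι pr (by
    rintro _ ⟨z, rfl⟩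
    refine (Scheme.Opens.range_ι _).ge ?_
    show G.hom (pr z) ∈ U.1
    rw [← Scheme.Hom.comp_apply, pullback.condition, Scheme.Hom.comp_apply, Scheme.Hom.comp_apply]
    exact (r _).2)
  have hqι : q ≫ (G.hom ⁻¹ᵁ U.1).ι = pr := IsOpenImmersion.lift_fac _ _ _
  have hsq : IsPullback q (pullback.snd G.hom (r ≫ U.1.ι)) (G.hom ∣_ U.1) r := by
    refine IsPullback.of_right (v₁₃ := G.hom) (h₂₂ := U.1.ι) ?_ ?_ (isPullback_morphismRestrict G.hom U.1).flip
    · rw [hqι]; exact IsPullback.of_hasPullback _ _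
    · rw [← cancel_mono U.1.ι, Category.assoc, morphismRestrict_ι, ← Category.assoc, hqι, pullback.condition,
        Category.assoc]
  have hq : (@Surjective ⊓ @Flat ⊓ @QuasiCompact : MorphismProperty Scheme.{u}) q :=
    ⟨⟨MorphismProperty.of_isPullback (P := @Surjective) hsq.flip inferInstance,
      MorphismProperty.of_isPullback (P := @Flat) hsq.flip inferInstance⟩,
      MorphismProperty.of_isPullback (P := @QuasiCompact) hsq.flip inferInstance⟩
  haveI := FpqcDescent.isClosedImmersion_descendsAlong.{u}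
  refine MorphismProperty.of_pullback_fst_of_descendsAlong (P := @IsClosedImmersion)
    (Q := @Surjective ⊓ @Flat ⊓ @QuasiCompact) hq ?_
  let n := pullback.fst q (i.left ∣_ G.hom ⁻¹ᵁ U.1)
  show IsClosedImmersion n
  have hn : IsPullback (pullback.snd q (i.left ∣_ G.hom ⁻¹ᵁ U.1) ≫ (i.left ⁻¹ᵁ G.hom ⁻¹ᵁ U.1).ι) n i.left pr := by
    have h1 : IsPullback (pullback.snd q (i.left ∣_ G.hom ⁻¹ᵁ U.1)) n (i.left ∣_ G.hom ⁻¹ᵁ U.1) q :=
      (IsPullback.of_hasPullback _ _).flip
    have h2 := h1.paste_horiz (isPullback_morphismRestrict i.left (G.hom ⁻¹ᵁ U.1)).flip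
    rwa [hqι] at h2
  -- the charts
  have hloc' : ∀ y : (W : Scheme.{u}), ∃ (V : S'.Opens) (hV : IsAffineOpen V) (M : Type) (_ : CommGroup M),
      y.1 ∈ V ∧ (V : Set S') ⊆ W ∧
        Nonempty (Grp.mk (Red.bc (hV.fromSpec ≫ f) H) ≅ Grp.mk (sp Γ(S', V) (MonoidAlgebra Γ(S', V) M))) := by
    intro y
    obtain ⟨O, hqO, M, _, hE⟩ := hloc y.1
    obtain ⟨_, ⟨V, hV, rfl⟩, hqV, hVO⟩ := S'.isBasis_affineOpens.exists_subset_of_mem_open
      (show y.1 ∈ (O : Set S') ∩ W from ⟨hqO, y.2⟩) (O.isOpen.inter W.isOpen)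
    replace hV : IsAffineOpen V := hV
    let j : Spec (CommRingCat.of Γ(S', V)) ⟶ O := IsOpenImmersion.lift O.ι hV.fromSpec (by
      intro z hz; exact (Scheme.Opens.range_ι O).ge (hVO (hV.range_fromSpec.le hz)).1)
    exact ⟨V, hV, Multiplicative M, inferInstance, hqV, fun x hx => (hVO hx).2,
      exists_chart_affine j (O.ι ≫ f) (hV.fromSpec ≫ f) (by rw [← Category.assoc, IsOpenImmersion.lift_fac]) H hE⟩
  choose V hV M instM hyV hVW hchart using hloc'
  let j : ∀ y : (W : Scheme.{u}), Spec Γ(S', V y) ⟶ W := fun y => IsOpenImmersion.lift W.ι (hV y).fromSpec (by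
    intro z hz; exact (Scheme.Opens.range_ι W).ge (hVW y ((hV y).range_fromSpec.le hz)))
  have hj : ∀ y, j y ≫ W.ι = (hV y).fromSpec := fun y => IsOpenImmersion.lift_fac _ _ _
  haveI : ∀ y, IsOpenImmersion (j y) := fun y => by
    haveI : IsOpenImmersion (j y ≫ W.ι) := by rw [hj y]; infer_instance
    exact IsOpenImmersion.of_comp (j y) W.ι
  let k : ∀ y, pullback G.hom ((hV y).fromSpec ≫ f) ⟶ P := fun y =>
    pullback.lift (pullback.fst _ _) (pullback.snd _ _ ≫ j y) (by
      rw [Category.assoc, hr, reassoc_of% (hj y), pullback.condition])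
  have hk : ∀ y, IsPullback (k y) (pullback.snd _ _) (pullback.snd G.hom (r ≫ U.1.ι)) (j y) := fun y => by
    refine IsPullback.of_right (v₁₃ := G.hom) (h₁₂ := pr) (h₂₂ := r ≫ U.1.ι) ?_ (pullback.lift_snd _ _ _) (IsPullback.of_hasPullback _ _)
    rw [show k y ≫ pr = pullback.fst _ _ from pullback.lift_fst _ _ _,
      show j y ≫ r ≫ U.1.ι = (hV y).fromSpec ≫ f by rw [hr, reassoc_of% (hj y)]]
    exact IsPullback.of_hasPullback _ _
  haveI : ∀ y, IsOpenImmersion (k y) := fun y => MorphismProperty.of_isPullback (P := @IsOpenImmersion) (hk y).flip inferInstance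
  refine IsZariskiLocalAtTarget.of_forall_exists_morphismRestrict (P := @IsClosedImmersion) fun x => ?_
  let y := pullback.snd G.hom (r ≫ U.1.ι) x
  obtain ⟨z, hz⟩ := (hV y).range_fromSpec.ge (hyV y)
  obtain ⟨w₀, hw₀, -⟩ := Scheme.Pullback.exists_preimage_pullback x z (show pullback.snd G.hom (r ≫ U.1.ι) x = j y z from by
    apply W.ι.isOpenEmbedding.injective
    rw [← Scheme.Hom.comp_apply (j y), hj y, hz]
    rfl)
  refine ⟨(k y).opensRange, ⟨(hk y).isoPullback.inv w₀, by rw [← hw₀, ← Scheme.Hom.comp_apply, IsPullback.isoPullback_inv_fst]⟩, (MorphismProperty.arrow_mk_iso_iff @IsClosedImmersion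
    (morphismRestrictOpensRange n (k y))).mpr ?_⟩
  let v := (hV y).fromSpec ≫ f
  letI := instM y
  obtain ⟨E⟩ := hchart y
  let e : sp Γ(S', V y) (MonoidAlgebra Γ(S', V y) (M y)) ⟶ Red.bc v H := E.inv.hom.hom
  haveI : IsMonHom e := E.inv.hom.isMonHom_hom
  haveI : IsIso e := ((Grp.forget _).mapIso E).isIso_inv
  haveI : IsAffineHom (Red.bc v G).hom := inferInstanceAs (IsAffineHom (pullback.snd G.hom v))
  haveI : Mono ((Over.pullback v).map i) := (Over.pullback v).map_mono i
  have hcl := isClosedImmersion_of_mono_affine (e ≫ (Over.pullback v).map i)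
  haveI : IsClosedImmersion ((Over.pullback v).map i).left := by
    haveI : IsIso e.left := ((Over.forget _).mapIso (asIso e)).isIso_hom
    rw [Over.comp_left] at hcl
    exact (MorphismProperty.cancel_left_of_respectsIso @IsClosedImmersion e.left _).mp hcl
  have h1 : IsPullback (pullback.fst H.hom v) ((Over.pullback v).map i).left i.left (pullback.fst G.hom v) := by
    refine IsPullback.of_bot ?_ (pullback.lift_fst _ _ _).symm (IsPullback.of_hasPullback G.hom v)
    have h2 : ((Over.pullback v).map i).left ≫ pullback.snd G.hom v = pullback.snd H.hom v :=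
      pullback.lift_snd _ _ _
    rw [h2, Over.w i]
    exact IsPullback.of_hasPullback H.hom v
  have h3 := (IsPullback.of_hasPullback n (k y)).paste_horiz hn
  rw [show k y ≫ pr = pullback.fst G.hom v from pullback.lift_fst _ _ _] at h3
  haveI : IsClosedImmersion ((h3.isoIsPullback _ _ h1).hom ≫ ((Over.pullback v).map i).left) := inferInstance
  rw [← IsPullback.isoIsPullback_hom_snd _ _ h3 h1]
  exact this

end Groth.Agent.Transporter
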