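import Groth.Agent.Transporter.LandLocus
import Groth.Agent.Transporter.MonoClosed
import Groth.Agent.Transporter.Basic
import Groth.Agent.ConjInt.Transporter
import Groth.Agent.FactLocus.Lfp
import Groth.Agent.FactLocus.Equal

/-!
The transporter of a group of multiplicative type into a closed subscheme.
-/

universe u

open CategoryTheory Limits MonoidalCategory CartesianMonoidalCategory MonObj GrpObj AlgebraicGeometry
open CoactBr Groth.Agent.DiagGrp Groth.Agent.DiagAction Groth.Agent.CentralDescent Groth.Agent.FactLocus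

set_option backward.isDefEq.respectTransparency false
set_option linter.style.haveILetI false

noncomputable section

namespace Groth.Agent.Transporter

variable {S : Scheme.{u}} {H G Y₁ : Over S} [GrpObj G]

/-- conjugation by `g` carries `u` into `y` -/
def Lands (u : H ⟶ G) (y : Y₁ ⟶ G) {X : Over S} (g : X ⟶ G) : Prop :=
  ∀ (X' : Over S) (x : X' ⟶ X) (h : X' ⟶ H), ∃ a : X' ⟶ Y₁, (x ≫ g) * (h ≫ u) * (x ≫ g)⁻¹ = a ≫ y

theorem lands_bc_iff {S' : Scheme.{u}} (b : S' ⟶ S) (u : H ⟶ G) (y : Y₁ ⟶ G) {X : Over S'} (g : X ⟶ Red.bc b G) :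
    Lands ((Over.pullback b).map u) ((Over.pullback b).map y) g ↔ Lands u y (downP b g) := by
  constructor
  · intro hg X' x h
    let Z : Over S' := Over.mk (x.left ≫ X.hom)
    let i : (Over.map b).obj Z ≅ X' := Over.isoMk (Iso.refl _) ((Category.id_comp _).trans
      ((Over.w x).symm.trans (Category.assoc _ _ _).symm))
    let x' : Z ⟶ X := Over.homMk x.left rfl
    obtain ⟨a, ha⟩ := hg Z x' (upP b (i.hom ≫ h))
    refine ⟨i.inv ≫ downP b a, ?_⟩
    rw [mul_inv_eq_iff_eq_mul] at ha ⊢
    have := congrArg (downP b) ha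
    rw [downP_mul, downP_mul, downP_comp_map, downP_comp_map, downP_upP, downP_comp,
      show (Over.map b).map x' = i.hom ≫ x from Over.OverMorphism.ext (Category.id_comp _).symm] at this
    rw [← cancel_epi i.hom, MonObj.comp_mul, MonObj.comp_mul, Category.assoc i.inv, Iso.hom_inv_id_assoc]
    simpa only [Category.assoc] using this
  · intro hg X' x h
    obtain ⟨a, ha⟩ := hg _ ((Over.map b).map x) (downP b h)
    refine ⟨upP b a, ?_⟩
    rw [mul_inv_eq_iff_eq_mul] at ha ⊢
    apply (Over.mapPullbackAdj b).homEquiv _ _ |>.symm.injective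
    show downP b _ = downP b _
    rw [downP_mul, downP_mul, downP_comp_map, downP_comp_map, downP_upP, downP_comp, ha]

variable [GrpObj H]

theorem exists_landTransporter (hH : IsMT H) (u : H ⟶ G) (y : Y₁ ⟶ G) [IsClosedImmersion y.left] :
    ∃ (T : Over S) (j : T ⟶ G), IsClosedImmersion j.left ∧
      (∀ (X : Over S) (g : X ⟶ G), (∃ z : X ⟶ T, z ≫ j = g) ↔ Lands u y g) ∧
      (LocallyOfFinitePresentation y.left → LocallyOfFinitePresentation j.left) := by
  let t := G.hom
  let gY (Z : Over G.left) : (Over.map t).obj Z ⟶ G := Over.homMk Z.hom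
  have hgY : ∀ (Z Z' : Over G.left) (a : Z ⟶ Z'), (Over.map t).map a ≫ gY Z' = gY Z := fun Z Z' a =>
    Over.OverMorphism.ext (Over.w a)
  let c : Red.bc t H ⟶ Red.bc t G := upP t (gY _) * (Over.pullback t).map u * (upP t (gY _))⁻¹
  have hpt : ∀ (Z : Over G.left) (a : Z ⟶ Red.bc t H), downP t (a ≫ c) = gY Z * (downP t a ≫ u) * (gY Z)⁻¹ := by
    intro Z a
    have h1 : downP t (a ≫ upP t (gY _)) = gY Z := by rw [downP_comp, downP_upP, hgY]
    simp only [c, MonObj.comp_mul, GrpObj.comp_inv]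
    rw [eq_mul_inv_iff_mul_eq, ← h1, ← downP_comp_map, ← downP_mul, ← downP_mul, inv_mul_cancel_right]
  let yb := (Over.pullback t).map y
  have hsq : IsPullback (pullback.fst Y₁.hom t) yb.left y.left (pullback.fst G.hom t) := by
    refine IsPullback.of_bot ?_ (pullback.lift_fst _ _ _).symm (IsPullback.of_hasPullback G.hom t)
    have h2 : yb.left ≫ pullback.snd G.hom t = pullback.snd Y₁.hom t := pullback.lift_snd _ _ _
    rw [h2, Over.w y]
    exact IsPullback.of_hasPullback Y₁.hom t
  haveI : IsClosedImmersion yb.left := MorphismProperty.of_isPullback hsq ‹IsClosedImmersion y.left›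
  obtain ⟨Z₀, jj, hjj, hfp, hZ⟩ := exists_closed_landLocus (isMT_bc t H hH) yb c
  let T : Over S := Over.mk (jj ≫ t)
  let j : T ⟶ G := Over.homMk jj
  refine ⟨T, j, hjj, fun X g => ⟨?_, fun hg => ?_⟩, fun h => hfp (MorphismProperty.of_isPullback hsq h)⟩
  · rintro ⟨z, rfl⟩ X' x h
    let Z : Over G.left := Over.mk (x ≫ z ≫ j).left
    let i : (Over.map t).obj Z ≅ X' := Over.isoMk (Iso.refl _) ((Category.id_comp _).trans (Over.w (x ≫ z ≫ j)).symm)
    obtain ⟨a, ha⟩ := (hZ (z ≫ j).left).mp ⟨z.left, rfl⟩ Z (Over.homMk x.left rfl) (upP t (i.hom ≫ h))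
    refine ⟨i.inv ≫ downP t a, ?_⟩
    have := congrArg (downP t) ha
    rw [downP_comp_map, hpt, downP_upP,
      show gY Z = i.hom ≫ x ≫ z ≫ j from Over.OverMorphism.ext (Category.id_comp _).symm] at this
    rw [← cancel_epi i.hom, MonObj.comp_mul, MonObj.comp_mul, GrpObj.comp_inv, Category.assoc i.inv,
      Iso.hom_inv_id_assoc]
    simpa only [Category.assoc] using this.symm
  · obtain ⟨z, hz⟩ := (hZ g.left).mpr fun Y p a => by
      let x : (Over.map t).obj Y ⟶ X := Over.homMk p.left (by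
        show p.left ≫ X.hom = Y.hom ≫ t
        rw [← Over.w g, ← Category.assoc]
        congr 1
        exact Over.w p)
      obtain ⟨d, hd⟩ := hg _ x (downP t a)
      refine ⟨upP t d, ?_⟩
      apply (Over.mapPullbackAdj t).homEquiv _ _ |>.symm.injective
      show downP t _ = downP t _
      rw [downP_comp_map, downP_upP, hpt, show gY Y = x ≫ g from Over.OverMorphism.ext (Over.w p).symm, hd]
    exact ⟨Over.homMk z (by rw [← Over.w g, ← hz, Category.assoc]; rfl), Over.OverMorphism.ext hz⟩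

/-- formal smoothness from lifting of points -/
theorem isFormallySmoothHom_of_lifts [Smooth G.hom] {T : Over S} (j : T ⟶ G) [Mono j.left]
    (P : ∀ {X : Over S}, (X ⟶ G) → Prop) (hT : ∀ (X : Over S) (g : X ⟶ G), (∃ z : X ⟶ T, z ≫ j = g) ↔ P g)
    (hlift : ∀ (A : Type u) [CommRing A] (I : Ideal A), I ^ 2 = ⊥ → ∀ (b : Spec (CommRingCat.of A) ⟶ S)
      (g₀ : (Over.mk (Spec.map (CommRingCat.ofHom (Ideal.Quotient.mk I))) : Over (Spec (CommRingCat.of A))) ⟶ Red.bc b G),
      P (downP b g₀) → ∃ g : 𝟙_ (Over (Spec (CommRingCat.of A))) ⟶ Red.bc b G,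
        toUnit (Over.mk (Spec.map (CommRingCat.ofHom (Ideal.Quotient.mk I))) : Over (Spec (CommRingCat.of A))) ≫ g = g₀ ∧
          P (downP b g)) :
    MoreMor.IsFormallySmoothHom T.hom := by
  intro A _ I hI a b w
  let M : Over (Spec (CommRingCat.of A)) := Over.mk (Spec.map (CommRingCat.ofHom (Ideal.Quotient.mk I)))
  let g0 : (Over.map b).obj M ⟶ G := Over.homMk (a ≫ j.left) (by
    show (a ≫ j.left) ≫ G.hom = _
    rw [Category.assoc, Over.w j]
    exact w.symm)
  have h0 : P g0 := (hT _ g0).mp ⟨Over.homMk a w.symm, Over.OverMorphism.ext rfl⟩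
  obtain ⟨g, hg1, hg⟩ := hlift A I hI b (upP b g0) (by rwa [downP_upP])
  obtain ⟨z, hz⟩ := (hT _ _).mpr hg
  refine ⟨z.left, ?_, (Over.w z).trans (Category.id_comp b)⟩
  have h2 := congrArg CommaMorphism.left (congrArg (downP b) hg1)
  rw [downP_comp, downP_upP] at h2
  simp only [Over.comp_left] at h2
  rw [← cancel_mono j.left, Category.assoc, show z.left ≫ j.left = (downP b g).left from congrArg CommaMorphism.left hz]
  have h3 : (toUnit M).left = Spec.map (CommRingCat.ofHom (Ideal.Quotient.mk I)) :=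
    (Category.comp_id _).symm.trans (Over.w (toUnit M))
  rw [← h3]
  exact h2

theorem smooth_landTransporter [Smooth G.hom] [IsAffineHom G.hom] {H₂ : Over S} [GrpObj H₂] (hH : IsMT H) (hH₂ : IsMT H₂)
    (u : H ⟶ G) [IsMonHom u] (i : H₂ ⟶ G) [IsMonHom i] [Mono i] {T : Over S} (j : T ⟶ G) [IsClosedImmersion j.left]
    (hfp : LocallyOfFinitePresentation j.left)
    (hT : ∀ (X : Over S) (g : X ⟶ G), (∃ z : X ⟶ T, z ≫ j = g) ↔ Lands u i g) : Smooth T.hom := by
  haveI := hfp
  haveI : IsClosedImmersion i.left := isClosedImmersion_of_mono hH₂ i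
  refine (Groth.FSmooth.smooth_iff T.hom).mpr ⟨by rw [← Over.w j]; infer_instance, ?_⟩
  refine isFormallySmoothHom_of_lifts j (fun g => Lands u i g) hT fun A _ I hI b g₀ h₀ => ?_
  haveI : IsImmersion ((Over.pullback b).map i).left := FactLocus.isImmersion_bc b i
  haveI : Smooth (Red.bc b G).hom := inferInstanceAs (Smooth (pullback.snd G.hom b))
  rw [← lands_bc_iff] at h₀
  obtain ⟨g, hg, hgc⟩ := ConjInt.transporter_lifts ⟨2, hI⟩ inferInstance ((Over.pullback b).map i)
    (Or.inr (isMT_bc b H₂ hH₂)) (isMT_bc b H hH) ((Over.pullback b).map u) g₀ fun X p h => h₀ X p h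
  refine ⟨g, hg, ?_⟩
  rw [← lands_bc_iff]
  intro X x h
  rw [toUnit_unique x (toUnit X)]
  exact hgc X h

end Groth.Agent.Transporter
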