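import Groth.Agent.Transporter.LandBasic
import Groth.Agent.Transporter.Subgroup

/-!
The transporter of one subgroup of multiplicative type onto another, and normalizers.
-/

universe u

open CategoryTheory MonoidalCategory CartesianMonoidalCategory MonObj GrpObj AlgebraicGeometry
open Groth.Agent.DiagAction Groth.Agent.CentralDescent

set_option backward.isDefEq.respectTransparency false
set_option linter.style.haveILetI false

noncomputable section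

namespace Groth.Agent.Transporter

theorem exists_subgroupTransporter {S : Scheme.{u}} {H₁ H₂ G : Over S} [GrpObj H₁] [GrpObj H₂] [GrpObj G]
    [Smooth G.hom] (h₁ : IsMT H₁) (h₂ : IsMT H₂) (i₁ : H₁ ⟶ G) [IsMonHom i₁] [IsClosedImmersion i₁.left]
    [LocallyOfFinitePresentation i₁.left] (i₂ : H₂ ⟶ G) [IsMonHom i₂] [IsClosedImmersion i₂.left]
    [LocallyOfFinitePresentation i₂.left] :
    ∃ (T : Over S) (j : T ⟶ G), IsClosedImmersion j.left ∧ Smooth T.hom ∧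
      ∀ (X : Over S) (g : X ⟶ G), (∃ t : X ⟶ T, t ≫ j = g) ↔
        ∀ (X' : Over S) (x : X' ⟶ X),
          (∀ h₁ : X' ⟶ H₁, ∃ h₂ : X' ⟶ H₂, (x ≫ g) * (h₁ ≫ i₁) * (x ≫ g)⁻¹ = h₂ ≫ i₂) ∧
          (∀ h₂ : X' ⟶ H₂, ∃ h₁ : X' ⟶ H₁, (x ≫ g)⁻¹ * (h₂ ≫ i₂) * (x ≫ g) = h₁ ≫ i₁) := by
  haveI : Mono i₁ := Over.mono_of_mono_left i₁
  haveI : Mono i₂ := Over.mono_of_mono_left i₂
  obtain ⟨T₁, j₁, hj₁, hT₁, hfp₁⟩ := exists_landTransporter h₁ i₁ i₂
  obtain ⟨T₂, j₂, hj₂, hT₂, hfp₂⟩ := exists_landTransporter h₂ i₂ i₁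
  haveI := hj₁
  haveI := hj₂
  haveI := hfp₁ inferInstance
  haveI := hfp₂ inferInstance
  have hι : ι[G] ≫ ι[G] = 𝟙 G := by
    have := GrpObj.comp_inv (ι[G]) (𝟙 G)
    simpa [Hom.inv_def] using (inv_inv (𝟙 G : G ⟶ G))
  haveI : IsIso (ι[G]).left :=
    ⟨(ι[G]).left, congrArg CommaMorphism.left hι, congrArg CommaMorphism.left hι⟩
  let j₂' : T₂ ⟶ G := j₂ ≫ ι[G]
  haveI : IsClosedImmersion j₂'.left := inferInstanceAs (IsClosedImmersion (j₂.left ≫ (ι[G]).left))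
  haveI : LocallyOfFinitePresentation j₂'.left :=
    inferInstanceAs (LocallyOfFinitePresentation (j₂.left ≫ (ι[G]).left))
  haveI : Mono j₁ := Over.mono_of_mono_left j₁
  haveI : Mono j₂ := Over.mono_of_mono_left j₂
  let T : Over S := Over.mk (Limits.pullback.fst j₁.left j₂'.left ≫ T₁.hom)
  let q₁ : T ⟶ T₁ := Over.homMk (Limits.pullback.fst j₁.left j₂'.left)
  let q₂ : T ⟶ T₂ := Over.homMk (Limits.pullback.snd j₁.left j₂'.left) (by
    show Limits.pullback.snd j₁.left j₂'.left ≫ T₂.hom = Limits.pullback.fst _ _ ≫ T₁.hom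
    rw [← Over.w j₁, ← Over.w j₂', Limits.pullback.condition_assoc])
  let j : T ⟶ G := q₁ ≫ j₁
  haveI : IsClosedImmersion j.left :=
    inferInstanceAs (IsClosedImmersion (Limits.pullback.fst j₁.left j₂'.left ≫ j₁.left))
  have hT : ∀ (X : Over S) (g : X ⟶ G), (∃ z : X ⟶ T, z ≫ j = g) ↔
      Lands i₁ i₂ g ∧ Lands i₂ i₁ g⁻¹ := by
    intro X g
    constructor
    · rintro ⟨z, rfl⟩
      refine ⟨(hT₁ X _).mp ⟨z ≫ q₁, Category.assoc _ _ _⟩, (hT₂ X _).mp ⟨z ≫ q₂, ?_⟩⟩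
      have hsq : q₁ ≫ j₁ = q₂ ≫ j₂' := Over.OverMorphism.ext Limits.pullback.condition
      rw [show j = q₂ ≫ j₂' from hsq, Hom.inv_def]
      simp only [j₂', Category.assoc, hι, Category.comp_id]
    · rintro ⟨hg₁, hg₂⟩
      obtain ⟨z₁, hz₁⟩ := (hT₁ X g).mpr hg₁
      obtain ⟨z₂, hz₂⟩ := (hT₂ X g⁻¹).mpr hg₂
      have hz₂' : z₂ ≫ j₂' = g := by
        simp only [j₂', ← Category.assoc, hz₂]
        rw [← Hom.inv_def, _root_.inv_inv]
      refine ⟨Over.homMk (Limits.pullback.lift z₁.left z₂.left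
        (congrArg CommaMorphism.left (hz₁.trans hz₂'.symm))) ?_, ?_⟩
      · show Limits.pullback.lift _ _ _ ≫ Limits.pullback.fst _ _ ≫ T₁.hom = X.hom
        rw [Limits.pullback.lift_fst_assoc]
        exact Over.w z₁
      · refine Eq.trans ?_ hz₁
        simp only [j, ← Category.assoc]
        congr 1
        exact Over.OverMorphism.ext (Limits.pullback.lift_fst _ _ _)
  refine ⟨T, j, inferInstance, ?_, fun X g => (hT X g).trans ⟨fun h X' x => ⟨h.1 X' x, fun h₂' => ?_⟩,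
    fun h => ⟨fun X' x => (h X' x).1, fun X' x h₂' => ?_⟩⟩⟩
  rotate_left
  · obtain ⟨a, ha⟩ := h.2 X' x h₂'
    exact ⟨a, by rwa [GrpObj.comp_inv, _root_.inv_inv] at ha⟩
  · obtain ⟨a, ha⟩ := (h X' x).2 h₂'
    exact ⟨a, by rwa [GrpObj.comp_inv, _root_.inv_inv]⟩
  haveI : LocallyOfFinitePresentation j.left :=
    inferInstanceAs (LocallyOfFinitePresentation (Limits.pullback.fst j₁.left j₂'.left ≫ j₁.left))
  refine (Groth.FSmooth.smooth_iff T.hom).mpr ⟨by rw [← Over.w j]; infer_instance, ?_⟩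
  refine isFormallySmoothHom_of_lifts j (fun g => Lands i₁ i₂ g ∧ Lands i₂ i₁ g⁻¹) hT fun A _ I hI b g₀ h₀ => ?_
  haveI : IsImmersion ((Over.pullback b).map i₁).left := FactLocus.isImmersion_bc b i₁
  haveI : IsImmersion ((Over.pullback b).map i₂).left := FactLocus.isImmersion_bc b i₂
  haveI : Smooth (Red.bc b G).hom := inferInstanceAs (Smooth (Limits.pullback.snd G.hom b))
  have hinv : ∀ (Z : Over (Spec (CommRingCat.of A))) (p : Z ⟶ Red.bc b G), downP b p⁻¹ = (downP b p)⁻¹ := fun Z p =>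
    eq_inv_of_mul_eq_one_left (by rw [← downP_mul, inv_mul_cancel, downP_one])
  rw [← hinv, ← lands_bc_iff, ← lands_bc_iff] at h₀
  obtain ⟨g, hg, φ, hφ⟩ := Groth.Agent.ConjInt.subgroups_conj_nilpotent (J := I) ⟨2, hI⟩
    ((Groth.FSmooth.smooth_iff _).mp inferInstance).2 (isMT_bc b H₁ h₁) (isMT_bc b H₂ h₂)
    ((Over.pullback b).map i₁) ((Over.pullback b).map i₂) g₀ fun X p => ⟨fun h => h₀.1 X p h, fun h => by
      obtain ⟨a, ha⟩ := h₀.2 X p h
      exact ⟨a, by rwa [GrpObj.comp_inv, _root_.inv_inv] at ha⟩⟩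
  refine ⟨g, hg, ?_⟩
  rw [← hinv, ← lands_bc_iff, ← lands_bc_iff]
  have key : ∀ (X : Over (Spec (CommRingCat.of A))) (h : X ⟶ Red.bc b H₁),
      (toUnit X ≫ g) * (h ≫ (Over.pullback b).map i₁) * (toUnit X ≫ g)⁻¹ =
        h ≫ φ.hom ≫ (Over.pullback b).map i₂ := fun X h => by
    have := congrArg (fun k => h ≫ k) hφ
    simp only [MonObj.comp_mul, GrpObj.comp_inv] at this
    rwa [← Category.assoc h (toUnit _) g, toUnit_unique (h ≫ toUnit _) (toUnit X)] at this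
  constructor
  · intro X x h
    refine ⟨h ≫ φ.hom, ?_⟩
    rw [toUnit_unique x (toUnit X), key, Category.assoc]
  · intro X x h
    refine ⟨h ≫ φ.inv, ?_⟩
    rw [toUnit_unique x (toUnit X), GrpObj.comp_inv, _root_.inv_inv]
    have := key X (h ≫ φ.inv)
    rw [Category.assoc, Category.assoc, φ.inv_hom_id_assoc] at this
    rw [← this, Category.assoc]
    group

/-- the normalizer of a subgroup of multiplicative type -/
theorem exists_normalizer {S : Scheme.{u}} {H G : Over S} [GrpObj H] [GrpObj G] [Smooth G.hom] (hH : IsMT H)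
    (i : H ⟶ G) [IsMonHom i] [IsClosedImmersion i.left] [LocallyOfFinitePresentation i.left] :
    ∃ (N : Over S) (_ : GrpObj N) (j : N ⟶ G), Red.IsNormalizerOf i j ∧ IsClosedImmersion j.left ∧ Smooth N.hom := by
  obtain ⟨T, j, hj, hs, hT⟩ := exists_subgroupTransporter hH hH i i
  haveI := hj
  haveI : Mono j := Over.mono_of_mono_left j
  have hN : ∀ (X : Over S) (g : X ⟶ G), (∃ z : X ⟶ T, z ≫ j = g) ↔
      ∀ (X' : Over S) (x : X' ⟶ X) (h : X' ⟶ H),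
        (∃ h' : X' ⟶ H, (x ≫ g) * (h ≫ i) * (x ≫ g)⁻¹ = h' ≫ i) ∧
        (∃ h' : X' ⟶ H, (x ≫ g)⁻¹ * (h ≫ i) * (x ≫ g) = h' ≫ i) := fun X g =>
    (hT X g).trans ⟨fun h X' x a => ⟨(h X' x).1 a, (h X' x).2 a⟩,
      fun h X' x => ⟨fun a => (h X' x a).1, fun a => (h X' x a).2⟩⟩
  obtain ⟨I, hI⟩ := exists_grpObj_of_closed j
    ((hN _ 1).mpr fun X' x h => ⟨⟨h, by rw [MonObj.comp_one, _root_.one_mul, inv_one, _root_.mul_one]⟩,
      ⟨h, by rw [MonObj.comp_one, inv_one, _root_.one_mul, _root_.mul_one]⟩⟩)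
    (fun X a b => (hN X _).mpr fun X' x h => by
      obtain ⟨q, hq⟩ := ((hN X _).mp ⟨b, rfl⟩ X' x h).1
      obtain ⟨q', hq'⟩ := ((hN X _).mp ⟨a, rfl⟩ X' x q).1
      obtain ⟨r, hr⟩ := ((hN X _).mp ⟨a, rfl⟩ X' x h).2
      obtain ⟨r', hr'⟩ := ((hN X _).mp ⟨b, rfl⟩ X' x r).2
      exact ⟨⟨q', by rw [← hq', ← hq, MonObj.comp_mul]; group⟩, ⟨r', by rw [← hr', ← hr, MonObj.comp_mul]; group⟩⟩)
    (fun X a => (hN X _).mpr fun X' x h => by
      obtain ⟨⟨q, hq⟩, ⟨r, hr⟩⟩ := (hN X _).mp ⟨a, rfl⟩ X' x h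
      rw [GrpObj.comp_inv, _root_.inv_inv]
      exact ⟨⟨r, hr⟩, ⟨q, hq⟩⟩)
  exact ⟨T, I, j, ⟨hI, inferInstance, hN⟩, hj, hs⟩

end Groth.Agent.Transporter
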