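import Mathlib

/-!
A condition on the algebras over a ring which is given by ideals on a flat covering is given by an ideal.
-/

universe u

open TensorProduct

noncomputable section

namespace Groth.Agent.Transporter

variable {A : Type u} [CommRing A] {ι : Type u} [Finite ι] (B : ι → Type u) [∀ i, CommRing (B i)] [∀ i, Algebra A (B i)]
  [∀ i, Module.Flat A (B i)]

/-- an element which dies in every member of a flat covering is zero -/
theorem eq_zero_of_forall_tmul_one {C : Type u} [AddCommGroup C] [Module A C]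
    (hsurj : ∀ p : PrimeSpectrum A, ∃ (i : ι) (q : PrimeSpectrum (B i)), PrimeSpectrum.comap (algebraMap A (B i)) q = p)
    {x : C} (h : ∀ i, (1 : B i) ⊗ₜ[A] x = 0) : x = 0 := by
  let K : Ideal A := LinearMap.ker (LinearMap.toSpanSingleton A C x)
  by_cases hK : K = ⊤
  · have : (1 : A) ∈ K := by rw [hK]; trivial
    simpa [K] using this
  exfalso
  obtain ⟨m, hm, hKm⟩ := Ideal.exists_le_maximal K hK
  obtain ⟨i, q, hq⟩ := hsurj ⟨m, hm.isPrime⟩
  let φ : (A ⧸ K) →ₗ[A] C := Submodule.liftQ K (LinearMap.toSpanSingleton A C x) le_rfl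
  have hφ : Function.Injective φ := by
    rw [← LinearMap.ker_eq_bot]
    exact Submodule.ker_liftQ_eq_bot _ _ _ le_rfl
  have hinj := Module.Flat.lTensor_preserves_injective_linearMap (M := B i) φ hφ
  have h1 : (1 : B i) ⊗ₜ[A] (Ideal.Quotient.mk K 1) = 0 := hinj (by
    rw [LinearMap.lTensor_tmul, map_zero]
    show (1 : B i) ⊗ₜ[A] (LinearMap.toSpanSingleton A C x 1) = 0
    rw [LinearMap.toSpanSingleton_apply, one_smul]
    exact h i)
  let ψ : B i ⊗[A] (A ⧸ K) →ₗ[A] B i ⧸ K.map (algebraMap A (B i)) :=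
    TensorProduct.lift ((LinearMap.mul A _).compl₁₂ (Ideal.Quotient.mkₐ A (K.map (algebraMap A (B i)))).toLinearMap
      (Ideal.Quotient.liftₐ K (Algebra.ofId A _) (fun a ha => by
        show algebraMap A (B i ⧸ K.map (algebraMap A (B i))) a = 0
        rw [IsScalarTower.algebraMap_apply A (B i) (B i ⧸ K.map (algebraMap A (B i)))]
        exact Ideal.Quotient.eq_zero_iff_mem.mpr (Ideal.mem_map_of_mem _ ha))).toLinearMap)
  have h2 : (1 : B i ⧸ K.map (algebraMap A (B i))) = 0 := by
    have := congrArg ψ h1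
    simpa [ψ] using this
  have h3 : (1 : B i) ∈ K.map (algebraMap A (B i)) := Ideal.Quotient.eq_zero_iff_mem.mp h2
  refine q.isPrime.ne_top ((Ideal.eq_top_iff_one _).mpr (Ideal.map_le_iff_le_comap.mpr ?_ h3))
  intro a ha
  have := congrArg PrimeSpectrum.asIdeal hq
  exact this.ge (hKm ha)

theorem exists_descended_ideal
    (hsurj : ∀ p : PrimeSpectrum A, ∃ (i : ι) (q : PrimeSpectrum (B i)), PrimeSpectrum.comap (algebraMap A (B i)) q = p)
    (P : ∀ {C : Type u} [CommRing C], (A →+* C) → Prop)
    (hmono : ∀ {C D : Type u} [CommRing C] [CommRing D] (f : A →+* C) (g : C →+* D), P f → P (g.comp f))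
    (hcov : ∀ {C : Type u} [CommRing C] [Algebra A C],
      (∀ i, P (algebraMap A (B i ⊗[A] C))) → P (algebraMap A C))
    (I : ∀ i, Ideal (B i))
    (hI : ∀ (i : ι) {C : Type u} [CommRing C] (g : B i →+* C), P (g.comp (algebraMap A (B i))) ↔ I i ≤ RingHom.ker g) :
    ∃ J : Ideal A, (∀ {C : Type u} [CommRing C] (f : A →+* C), P f ↔ J ≤ RingHom.ker f) ∧
      ((∀ i, (I i).FG) → J.FG) := by
  classical
  cases nonempty_fintype ι
  let J : Ideal A := ⨅ i, (I i).comap (algebraMap A (B i))
  -- the ideals are extended from `J`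
  have key : ∀ i, I i ≤ J.map (algebraMap A (B i)) := by
    intro i x hx
    let φ : (A ⧸ J) →ₗ[A] (∀ j, B j ⧸ I j) := Submodule.liftQ J
      (LinearMap.pi fun j => (Algebra.linearMap A (B j ⧸ I j))) (fun a ha => by
        ext j
        show algebraMap A (B j ⧸ I j) a = 0
        rw [IsScalarTower.algebraMap_apply A (B j) (B j ⧸ I j)]
        exact Ideal.Quotient.eq_zero_iff_mem.mpr ((Submodule.mem_iInf _).mp ha j))
    have hφ : Function.Injective φ := by
      rw [← LinearMap.ker_eq_bot]
      refine Submodule.ker_liftQ_eq_bot _ _ _ fun a ha => (Submodule.mem_iInf _).mpr fun j => ?_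
      have := congrFun ha j
      change algebraMap A (B j ⧸ I j) a = 0 at this
      rw [IsScalarTower.algebraMap_apply A (B j) (B j ⧸ I j)] at this
      exact (Ideal.Quotient.eq_zero_iff_mem.mp this :)
    have hinj := Module.Flat.lTensor_preserves_injective_linearMap (M := B i) φ hφ
    have h1 : x ⊗ₜ[A] (Ideal.Quotient.mk J 1) = 0 := hinj (by
      rw [LinearMap.lTensor_tmul, map_zero]
      apply (TensorProduct.piRight A A (B i) fun j => B j ⧸ I j).injective
      rw [map_zero]
      ext j
      show x ⊗ₜ[A] (algebraMap A (B j ⧸ I j) 1) = 0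
      rw [map_one]
      let g : B j →+* B i ⊗[A] (B j ⧸ I j) :=
        (Algebra.TensorProduct.includeRight : _ →ₐ[A] B i ⊗[A] (B j ⧸ I j)).toRingHom.comp (Ideal.Quotient.mk (I j))
      have hg : P (g.comp (algebraMap A (B j))) := (hI j g).mpr fun z hz => by
        simp [g, Ideal.Quotient.eq_zero_iff_mem.mpr hz]
      have e : g.comp (algebraMap A (B j)) =
          (Algebra.TensorProduct.includeLeftRingHom (R := A) (A := B i) (B := B j ⧸ I j)).comp (algebraMap A (B i)) := by
        ext a
        exact ((Algebra.TensorProduct.includeRight : _ →ₐ[A] B i ⊗[A] (B j ⧸ I j)).commutes a).trans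
          ((Algebra.TensorProduct.includeLeft : B i →ₐ[A] B i ⊗[A] (B j ⧸ I j)).commutes a).symm
      rw [e] at hg
      exact (hI i _).mp hg hx)
    let ψ : B i ⊗[A] (A ⧸ J) →ₗ[A] B i ⧸ J.map (algebraMap A (B i)) :=
      TensorProduct.lift ((LinearMap.mul A _).compl₁₂ (Ideal.Quotient.mkₐ A (J.map (algebraMap A (B i)))).toLinearMap
        (Ideal.Quotient.liftₐ J (Algebra.ofId A _) (fun a ha => by
          show algebraMap A (B i ⧸ J.map (algebraMap A (B i))) a = 0
          rw [IsScalarTower.algebraMap_apply A (B i) (B i ⧸ J.map (algebraMap A (B i)))]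
          exact Ideal.Quotient.eq_zero_iff_mem.mpr (Ideal.mem_map_of_mem _ ha))).toLinearMap)
    have h2 := congrArg ψ h1
    simp [ψ] at h2
    exact Ideal.Quotient.eq_zero_iff_mem.mp h2
  have crit : ∀ {C : Type u} [CommRing C] (f : A →+* C) (J₀ : Ideal A), J₀ ≤ J →
      (∀ i, I i ≤ J₀.map (algebraMap A (B i))) → (P f ↔ J₀ ≤ RingHom.ker f) := by
    intro C _ f J₀ hle hgen
    letI := f.toAlgebra
    have e : ∀ i, algebraMap A (B i ⊗[A] C) =
        (Algebra.TensorProduct.includeRight : C →ₐ[A] B i ⊗[A] C).toRingHom.comp f := fun i =>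
      RingHom.ext fun a => ((Algebra.TensorProduct.includeRight : C →ₐ[A] B i ⊗[A] C).commutes a).symm
    have hleft : ∀ i, algebraMap A (B i ⊗[A] C) =
        (Algebra.TensorProduct.includeLeftRingHom (R := A) (A := B i) (B := C)).comp (algebraMap A (B i)) := fun i =>
      RingHom.ext fun a => ((Algebra.TensorProduct.includeLeft : B i →ₐ[A] B i ⊗[A] C).commutes a).symm
    constructor
    · intro hf a ha
      refine eq_zero_of_forall_tmul_one B hsurj fun i => ?_
      have hP : P (algebraMap A (B i ⊗[A] C)) := by rw [e]; exact hmono f _ hf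
      rw [hleft, hI] at hP
      have h0 : algebraMap A (B i) a ⊗ₜ[A] (1 : C) = 0 := hP ((Submodule.mem_iInf _).mp (hle ha) i)
      rw [Algebra.algebraMap_eq_smul_one, TensorProduct.smul_tmul] at h0
      rwa [show f a = a • (1 : C) from (Algebra.algebraMap_eq_smul_one (A := C) a)]
    · intro hJ
      refine hcov fun i => ?_
      rw [hleft, hI]
      refine (hgen i).trans (Ideal.map_le_iff_le_comap.mpr fun a ha => ?_)
      show Algebra.TensorProduct.includeLeftRingHom (R := A) (A := B i) (B := C) (algebraMap A (B i) a) = 0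
      rw [← RingHom.comp_apply, ← hleft, e, RingHom.comp_apply, hJ ha, map_zero]
  refine ⟨J, fun f => crit f J le_rfl key, fun hfg => ?_⟩
  have : ∀ i, ∃ s : Finset A, (s : Set A) ⊆ J ∧ I i ≤ Ideal.span (algebraMap A (B i) '' s) := by
    intro i
    obtain ⟨t, ht⟩ := hfg i
    have hx : ∀ y ∈ t, ∃ s : Finset A, (s : Set A) ⊆ J ∧ y ∈ Ideal.span (algebraMap A (B i) '' (s : Set A)) := by
      intro y hy
      obtain ⟨T, hT, hyT⟩ := Submodule.mem_span_finite_of_mem_span (key i (ht ▸ Ideal.subset_span hy))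
      obtain ⟨s, hs, rfl⟩ := Finset.subset_set_image_iff.mp hT
      exact ⟨s, hs, by simpa [Finset.coe_image] using hyT⟩
    choose s hs hys using hx
    refine ⟨t.attach.biUnion fun y => s y.1 y.2, by simpa using fun y hy => hs y hy, ?_⟩
    rw [← ht, Ideal.span_le]
    intro y hy
    refine Ideal.span_mono (Set.image_mono ?_) (hys y hy)
    intro a ha
    simp only [Finset.coe_biUnion, Set.mem_iUnion]
    exact ⟨⟨y, hy⟩, Finset.mem_attach _ _, ha⟩
  choose s hs hIs using this
  let J₀ : Ideal A := Ideal.span ((Finset.univ.biUnion s : Finset A) : Set A)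
  have hle : J₀ ≤ J := Ideal.span_le.mpr (by simpa using fun i => hs i)
  have hgen : ∀ i, I i ≤ J₀.map (algebraMap A (B i)) := fun i => (hIs i).trans (by
    rw [Ideal.map_span]
    exact Ideal.span_mono (Set.image_mono (fun a ha => by simpa using ⟨i, ha⟩)))
  have : J = J₀ := le_antisymm
    (by
      have h1 : P (Ideal.Quotient.mk J₀) := (crit _ J₀ hle hgen).mpr Ideal.mk_ker.ge
      exact ((crit _ J le_rfl key).mp h1).trans Ideal.mk_ker.le) hle
  rw [this]
  exact ⟨_, rfl⟩

end Groth.Agent.Transporter
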