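import Groth.Agent.Transporter.EqLocus
import Groth.Agent.FactLocus.Groups

/-!
The locus where a map out of a group of multiplicative type lands in a closed subscheme is closed.
-/

universe u

open CategoryTheory Limits MonoidalCategory CartesianMonoidalCategory MonObj GrpObj AlgebraicGeometry
open CoactBr Groth.Agent.DiagGrp Groth.Agent.DiagAction Groth.Agent.FactLocus

set_option backward.isDefEq.respectTransparency false
set_option linter.style.haveILetI false

noncomputable section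

namespace Groth.Agent.Transporter

variable {S : Scheme.{u}} {H G Y₁ : Over S} [GrpObj H]

theorem fact_of_cover_family {i : Y₁ ⟶ G} [IsImmersion i.left] {u : H ⟶ G} {T : Scheme.{u}} (t : T ⟶ S) {κ : Type u}
    (X : κ → Scheme.{u}) (q : ∀ k, X k ⟶ T) [∀ k, Flat (q k)] (hs : ∀ x : T, ∃ k, x ∈ Set.range (q k))
    (h : ∀ k, Fact i u (q k ≫ t)) : Fact i u t := by
  haveI : Mono i.left := inferInstance
  haveI : Flat (Sigma.desc q) := IsZariskiLocalAtSource.sigmaDesc (P := @Flat) fun k => inferInstance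
  haveI : Surjective (Sigma.desc q) := ⟨fun x => by
    obtain ⟨k, y, hy⟩ := hs x
    exact ⟨Sigma.ι X k y, by rw [← Scheme.Hom.comp_apply, Sigma.ι_desc]; exact hy⟩⟩
  refine fact_of_cover t (Sigma.desc q) (fact_of_local _ fun x => ?_)
  obtain ⟨k, w, hw⟩ := (sigmaOpenCover X).exists_eq x
  refine ⟨(Sigma.ι X k).opensRange, ⟨w, hw⟩, ?_⟩
  have := (h k).comp (Sigma.ι X k).isoOpensRange.inv
  rwa [← Sigma.ι_desc q k, Category.assoc, Scheme.Hom.isoOpensRange_inv_comp_assoc] at this

/-- on a split piece the locus is cut out by the coefficients -/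
theorem exists_land_chart {i : Y₁ ⟶ G} [IsClosedImmersion i.left] {A : Type u} [CommRing A]
    (t : Spec (CommRingCat.of A) ⟶ S) {M : Type} [CommGroup M]
    (he : Nonempty (Grp.mk (Red.bc t H) ≅ Grp.mk (sp A (MonoidAlgebra A M)))) (u : H ⟶ G) :
    ∃ c : Ideal A, (LocallyOfFinitePresentation i.left → c.FG) ∧ ∀ (B : Type u) [CommRing B] (f : A →+* B),
        Fact i u (Spec.map (CommRingCat.ofHom f) ≫ t) ↔ c ≤ RingHom.ker f := by
  classical
  obtain ⟨E⟩ := he
  let e : sp A (MonoidAlgebra A M) ⟶ Red.bc t H := E.inv.hom.hom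
  haveI : IsIso e := ((Grp.forget _).mapIso E).isIso_inv
  let w : Spec (CommRingCat.of (MonoidAlgebra A M)) ⟶ H.left := (downP t e).left
  let E' := pullback.snd i.left (w ≫ u.left)
  obtain ⟨I, hIfg, hI⟩ := FactLocus.exists_ker_criterion E'
  let c : Ideal A := Ideal.span {a | ∃ x ∈ I, ∃ m, x.coeff m = a}
  have hc : ∀ (B : Type u) [CommRing B] (f : A →+* B),
      I ≤ RingHom.ker (MonoidAlgebra.mapRingHom M f) ↔ c ≤ RingHom.ker f := by
    intro B _ f
    constructor
    · refine fun h => Ideal.span_le.mpr ?_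
      rintro _ ⟨x, hx, m, rfl⟩
      have h1 := congrArg (fun w => w.coeff m) (RingHom.mem_ker.mp (h hx))
      simpa using h1
    · intro h x hx
      refine RingHom.mem_ker.mpr (MonoidAlgebra.ext (Finsupp.ext fun m => ?_))
      simpa using RingHom.mem_ker.mp (h (Ideal.subset_span ⟨x, hx, m, rfl⟩))
  have hpts : ∀ (C : Type u) [CommRing C] (k : MonoidAlgebra A M →+* C), I ≤ RingHom.ker k ↔
      ∃ z, z ≫ i.left = Spec.map (CommRingCat.ofHom k) ≫ w ≫ u.left := by
    intro C _ k
    rw [← hI]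
    constructor
    · rintro ⟨z, hz⟩
      exact ⟨z ≫ pullback.fst _ _, by rw [Category.assoc, pullback.condition, reassoc_of% hz]⟩
    · rintro ⟨z, hz⟩
      exact ⟨pullback.lift z (Spec.map (CommRingCat.ofHom k)) hz, pullback.lift_snd _ _ _⟩
  refine ⟨c, fun hft => ?_, fun B _ f => ?_⟩
  · haveI := hft
    haveI : LocallyOfFinitePresentation E' := inferInstance
    obtain ⟨c', hc'fg, hc'⟩ := CoeffLocus.exists_coeff_ideal I (hIfg inferInstance)
    have : c = c' := le_antisymm
      (Ideal.mk_ker (I := c') ▸ (hc _ _).mp ((hc' _ (Ideal.Quotient.mk c')).mpr Ideal.mk_ker.ge))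
      (Ideal.mk_ker (I := c) ▸ (hc' _ _).mp ((hc _ (Ideal.Quotient.mk c)).mpr Ideal.mk_ker.ge))
    rwa [this]
  · letI := f.toAlgebra
    have hincl : (incl A B M : MonoidAlgebra A M →+* MonoidAlgebra B M) = MonoidAlgebra.mapRingHom M f :=
      FactLocus.incl_eq_mapRingHom A B M
    rw [← hc]
    constructor
    · intro h
      rw [← hincl, hpts]
      let Z : Over S := (Over.map t).obj (sp A (MonoidAlgebra B M))
      let p : Z ⟶ Over.mk (Spec.map (CommRingCat.ofHom f) ≫ t) :=
        Over.homMk (Spec.map (CommRingCat.ofHom (algebraMap B (MonoidAlgebra B M)))) (by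
          show Spec.map _ ≫ Spec.map (CommRingCat.ofHom (algebraMap A B)) ≫ t = Spec.map _ ≫ t
          rw [← Category.assoc, ← Spec.map_comp, ← CommRingCat.ofHom_comp, ← IsScalarTower.algebraMap_eq])
      obtain ⟨z, hz⟩ := h Z p ((Over.map t).map (pt (incl A B M)) ≫ downP t e)
      have := congrArg CommaMorphism.left hz
      simp only [Over.comp_left, Category.assoc] at this
      exact ⟨z.left, this⟩
    · intro hle Y p y
      let Z : Over (Spec (CommRingCat.of A)) := Over.mk (p.left ≫ Spec.map (CommRingCat.ofHom f))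
      let e' : (Over.map t).obj Z ≅ Y := Over.isoMk (Iso.refl _) (by
        show 𝟙 _ ≫ Y.hom = (p.left ≫ Spec.map _) ≫ t
        rw [Category.id_comp, Category.assoc]
        exact (Over.w p).symm)
      let 𝒰 := Y.left.affineCover
      refine exists_point_of_cover Y (y ≫ u) (fun a => 𝒰.X a) (fun a => 𝒰.f a)
        (fun z => ⟨_, 𝒰.covers z⟩) fun a => ?_
      let U := 𝒰.X a
      let o := U.isoSpec.inv ≫ 𝒰.f a
      let φ : CommRingCat.of B ⟶ Γ(U, ⊤) := Spec.preimage (o ≫ p.left)
      letI : Algebra A Γ(U, ⊤) := (φ.hom.comp f).toAlgebra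
      let g : sp A Γ(U, ⊤) ⟶ Z := Over.homMk o (by
        show o ≫ p.left ≫ Spec.map (CommRingCat.ofHom f) = Spec.map (CommRingCat.ofHom (φ.hom.comp f))
        rw [CommRingCat.ofHom_comp, Spec.map_comp, ← Category.assoc]
        congr 1
        exact (Spec.map_preimage _).symm)
      obtain ⟨k, hk⟩ := pt_surjective (g ≫ upP t (e'.hom ≫ y) ≫ inv e)
      have hk' : (downP t (g ≫ upP t (e'.hom ≫ y))).left = (downP t (pt k ≫ e)).left := by simp [hk]
      have hC : I ≤ RingHom.ker (k : MonoidAlgebra A M →+* Γ(U, ⊤)) := by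
        intro x hx
        let k' : MonoidAlgebra B M →+* Γ(U, ⊤) :=
          MonoidAlgebra.liftNCRingHom φ.hom ((k : MonoidAlgebra A M →* Γ(U, ⊤)).comp (MonoidAlgebra.of A M)) fun _ _ => mul_comm _ _
        have : (k : MonoidAlgebra A M →+* Γ(U, ⊤)) = k'.comp (MonoidAlgebra.mapRingHom M f) :=
          MonoidAlgebra.ringHom_ext (fun r => by
            simp [k', MonoidAlgebra.liftNCRingHom]
            rw [show k (MonoidAlgebra.single 1 1) = 1 from map_one k, _root_.mul_one]
            exact k.commutes r)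
            (fun m => by simp [k', MonoidAlgebra.liftNCRingHom])
        rw [RingHom.mem_ker, this, RingHom.comp_apply, RingHom.mem_ker.mp (hle hx), map_zero]
      obtain ⟨z, hz⟩ := (hpts _ (k : MonoidAlgebra A M →+* Γ(U, ⊤))).mp hC
      rw [downP_comp, downP_upP, downP_comp] at hk'
      simp only [Over.comp_left] at hk'
      refine ⟨U.isoSpec.hom ≫ z, ?_⟩
      rw [Category.assoc, hz]
      have h2 := congrArg (fun w => w ≫ u.left) hk'
      simp only [Category.assoc] at h2
      erw [← h2]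
      show U.isoSpec.hom ≫ (U.isoSpec.inv ≫ 𝒰.f a) ≫ 𝟙 _ ≫ y.left ≫ u.left = 𝒰.f a ≫ (y ≫ u).left
      rw [Category.id_comp, Category.assoc, Iso.hom_inv_id_assoc, Over.comp_left]

theorem exists_closed_landLocus (hH : IsMT H) (i : Y₁ ⟶ G) [IsClosedImmersion i.left] (u : H ⟶ G) :
    ∃ (Z : Scheme.{u}) (jj : Z ⟶ S), IsClosedImmersion jj ∧ (LocallyOfFinitePresentation i.left → LocallyOfFinitePresentation jj) ∧
      ∀ {T : Scheme.{u}} (g : T ⟶ S), (∃ z : T ⟶ Z, z ≫ jj = g) ↔ Fact i u g := by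
  classical
  obtain ⟨S', f, hflat, hsurj, hcov, hloc⟩ := hH
  haveI : Flat f := hflat
  have haff : ∀ U : S.affineOpens, ∃ I : Ideal Γ(S, U), (LocallyOfFinitePresentation i.left → I.FG) ∧
      ∀ (C : CommRingCat.{u}) (φ : Γ(S, U) ⟶ C), Fact i u (Spec.map φ ≫ U.2.fromSpec) ↔ I ≤ RingHom.ker φ.hom := by
    intro U
    obtain ⟨W, hWc, hW⟩ := hcov U.1 U.2
    have hq : ∀ q : W, ∃ (V : S'.Opens) (hV : IsAffineOpen V) (M : Type) (_ : CommGroup M), q.1 ∈ V ∧ (V : Set S') ⊆ W ∧
        Nonempty (Grp.mk (Red.bc (hV.fromSpec ≫ f) H) ≅ Grp.mk (sp Γ(S', V) (MonoidAlgebra Γ(S', V) M))) := by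
      intro q
      obtain ⟨O, hqO, M, _, hE⟩ := hloc q.1
      obtain ⟨_, ⟨V, hV, rfl⟩, hqV, hVO⟩ := S'.isBasis_affineOpens.exists_subset_of_mem_open
        (show q.1 ∈ (O : Set S') ∩ W from ⟨hqO, q.2⟩) (O.isOpen.inter W.isOpen)
      replace hV : IsAffineOpen V := hV
      let j : Spec (CommRingCat.of Γ(S', V)) ⟶ O := IsOpenImmersion.lift O.ι hV.fromSpec (by
        intro z hz; exact (Scheme.Opens.range_ι O).ge (hVO (hV.range_fromSpec.le hz)).1)
      exact ⟨V, hV, Multiplicative M, inferInstance, hqV, fun x hx => (hVO hx).2,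
        exists_chart_affine j (O.ι ≫ f) (hV.fromSpec ≫ f) (by rw [← Category.assoc, IsOpenImmersion.lift_fac]) H hE⟩
    choose V hV M instM hqV hVW hchart using hq
    obtain ⟨s, hs⟩ := hWc.elim_finite_subcover (fun q : W => (V q : Set S')) (fun q => (V q).isOpen)
      (fun q hq => Set.mem_iUnion.mpr ⟨⟨q, hq⟩, hqV _⟩)
    have hle : ∀ q, V q ≤ f ⁻¹ᵁ U.1 := fun q x hx => hW.le ⟨x, hVW q hx, rfl⟩
    letI : ∀ q : s, Algebra Γ(S, U) Γ(S', V q.1) := fun q => (f.appLE U.1 (V q.1) (hle _)).hom.toAlgebra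
    haveI : ∀ q : s, Module.Flat Γ(S, U) Γ(S', V q.1) := fun q =>
      RingHom.flat_algebraMap_iff.mp (f.flat_appLE U.2 (hV _) (hle _))
    have hfs : ∀ q : s, Spec.map (CommRingCat.ofHom (algebraMap Γ(S, U) Γ(S', V q.1))) ≫ U.2.fromSpec =
        (hV q.1).fromSpec ≫ f := fun q => IsAffineOpen.SpecMap_appLE_fromSpec f U.2 (hV _) (hle _)
    have hpiece : ∀ q : s, ∃ c : Ideal Γ(S', V q.1), (LocallyOfFinitePresentation i.left → c.FG) ∧
        ∀ (B : Type u) [CommRing B] (g : Γ(S', V q.1) →+* B),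
          Fact i u (Spec.map (CommRingCat.ofHom g) ≫ (hV q.1).fromSpec ≫ f) ↔ c ≤ RingHom.ker g := fun q => by
      letI := instM q.1
      exact exists_land_chart ((hV q.1).fromSpec ≫ f) (hchart q.1) u
    choose c hcfg hc using hpiece
    let P : ∀ {C : Type u} [CommRing C], (Γ(S, U) →+* C) → Prop :=
      fun {C} _ φ => Fact i u (Spec.map (CommRingCat.ofHom φ) ≫ U.2.fromSpec)
    have hsurj' : ∀ p : PrimeSpectrum Γ(S, U), ∃ (q : s) (r : PrimeSpectrum Γ(S', V q.1)),
        PrimeSpectrum.comap (algebraMap Γ(S, U) Γ(S', V q.1)) r = p := by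
      intro p
      obtain ⟨x, hx, hxp⟩ := hW.ge (U.2.range_fromSpec.le ⟨p, rfl⟩)
      obtain ⟨q, hq⟩ := Set.mem_iUnion.mp (hs hx)
      obtain ⟨hqs, hxq⟩ := Set.mem_iUnion.mp hq
      obtain ⟨r, hr⟩ := (hV q).range_fromSpec.ge hxq
      refine ⟨⟨q, hqs⟩, r, U.2.fromSpec.isOpenEmbedding.injective ?_⟩
      show U.2.fromSpec (Spec.map (CommRingCat.ofHom (algebraMap Γ(S, U) Γ(S', V (⟨q, hqs⟩ : s).1))) r) = _
      have := congrArg (fun φ => φ r) (hfs ⟨q, hqs⟩)
      simp only [Scheme.Hom.comp_apply] at this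
      refine this.trans ?_
      rw [← hxp]
      exact congrArg f hr
    obtain ⟨J, hJ, hJfg⟩ := exists_descended_ideal (fun q : s => Γ(S', V q.1)) hsurj' P
      (fun {C D} _ _ φ g hφ => by
        have := hφ.comp (Spec.map (CommRingCat.ofHom g))
        rwa [← Category.assoc, ← Spec.map_comp, ← CommRingCat.ofHom_comp] at this)
      (fun {C} _ _ hC => by
        haveI : ∀ q : s, Flat (Spec.map (CommRingCat.ofHom (Algebra.TensorProduct.includeRight :
            C →ₐ[Γ(S, U)] TensorProduct Γ(S, U) Γ(S', V q.1) C).toRingHom)) := fun q => by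
          rw [HasRingHomProperty.Spec_iff (P := @Flat)]
          have h1 : (algebraMap C (TensorProduct Γ(S, U) C Γ(S', V q.1))).Flat :=
            RingHom.flat_algebraMap_iff.mpr inferInstance
          have h2 := RingHom.Flat.respectsIso.1 _
            (Algebra.TensorProduct.comm Γ(S, U) C Γ(S', V q.1)).toRingEquiv h1
          show RingHom.Flat (Algebra.TensorProduct.includeRight :
            C →ₐ[Γ(S, U)] TensorProduct Γ(S, U) Γ(S', V q.1) C).toRingHom
          rw [show (Algebra.TensorProduct.includeRight : C →ₐ[Γ(S, U)] TensorProduct Γ(S, U) Γ(S', V q.1) C).toRingHom =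
            (Algebra.TensorProduct.comm Γ(S, U) C Γ(S', V q.1)).toRingEquiv.toRingHom.comp (algebraMap C _) from
            RingHom.ext fun c => rfl]
          exact h2
        refine fact_of_cover_family _ (fun q : s => Spec (CommRingCat.of (TensorProduct Γ(S, U) Γ(S', V q.1) C)))
          (fun q => Spec.map (CommRingCat.ofHom (Algebra.TensorProduct.includeRight :
            C →ₐ[Γ(S, U)] TensorProduct Γ(S, U) Γ(S', V q.1) C).toRingHom)) ?_ fun q => ?_
        · intro x
          obtain ⟨q, r, hr⟩ := hsurj' (PrimeSpectrum.comap (algebraMap Γ(S, U) C) x)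
          obtain ⟨z, -, hz⟩ := Scheme.Pullback.exists_preimage_pullback
            (f := Spec.map (CommRingCat.ofHom (algebraMap Γ(S, U) Γ(S', V q.1))))
            (g := Spec.map (CommRingCat.ofHom (algebraMap Γ(S, U) C))) r x hr
          refine ⟨q, (pullbackSpecIso Γ(S, U) Γ(S', V q.1) C).hom z, ?_⟩
          rw [← Scheme.Hom.comp_apply]
          erw [pullbackSpecIso_hom_snd]
          exact hz
        · rw [← Category.assoc, ← Spec.map_comp, ← CommRingCat.ofHom_comp]
          convert hC q using 4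
          exact RingHom.ext fun a => (Algebra.TensorProduct.includeRight :
            C →ₐ[Γ(S, U)] TensorProduct Γ(S, U) Γ(S', V q.1) C).commutes a)
      c (fun q {C} _ g => by
        show Fact i u (Spec.map (CommRingCat.ofHom (g.comp (algebraMap _ _))) ≫ U.2.fromSpec) ↔ _
        rw [CommRingCat.ofHom_comp, Spec.map_comp, Category.assoc, hfs]
        exact hc q C g)
    exact ⟨J, fun h => hJfg fun q => hcfg q h, fun C φ => hJ φ.hom⟩
  choose I hIfg hI using haff
  obtain ⟨Z, jj, hι, hZ⟩ := CenterRep.exists_closed_of_affine (T := S) (fun {T} g => Fact i u g)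
    (fun h g hg => hg.comp h)
    (fun {T} g 𝒰 hg => fact_of_cover_family g 𝒰.X 𝒰.f (fun x => ⟨_, 𝒰.covers x⟩) hg)
    (fun U => ⟨I U, hI U⟩)
  haveI := hι
  exact ⟨Z, jj, hι, fun h => locallyOfFinitePresentation_of_fg jj fun U => ⟨I U, hIfg U h, fun C φ => (hZ _).trans (hI U C φ)⟩,
    fun g => hZ g⟩

end Groth.Agent.Transporter
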